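import Groth.Agent.SiteBase.DLimA.Trunc
import Groth.Agent.SiteBase.ExtMod
import Groth.Agent.SiteBase.HKRep
import Groth.Prelude.Def_ModSite

/-!
# Sheaves of modules and their sections
-/

set_option autoImplicit false

universe w u

open CategoryTheory CategoryTheory.Limits Opposite Abelian

namespace Groth.Agent.DLimA

open Groth.Agent.SiteBase

variable {C : Type u} [SmallCategory C] {J : GrothendieckTopology C}
  (O : Sheaf J CommRingCat.{u})

/-- The free module on an object. -/
noncomputable abbrev freeAt : C ⥤ ModSite.Mod O :=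
  yoneda ⋙ presheafToSheaf J (Type u) ⋙ freeModSh (ModSite.ringSh O)

/-- Maps out of a free module on an object are sections. -/
noncomputable def freeAtEquiv (U : C) (F : ModSite.Mod O) :
    ((freeAt O).obj U ⟶ F) ≃+ (ModSite.toAb F).obj.obj (op U) :=
  ((freeModAddEquiv (hSheaf J U) F).trans
    { toFun := fun φ => (freeSheafifyIso J).inv.app (yoneda.obj U) ≫ φ
      invFun := fun φ => (freeSheafifyIso J).hom.app (yoneda.obj U) ≫ φ
      left_inv := fun φ => (Category.assoc _ _ _).symm.trans ((congrArg (· ≫ φ) ((freeSheafifyIso J).hom_inv_id_app (yoneda.obj U))).trans (Category.id_comp _))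
      right_inv := fun φ => (Category.assoc _ _ _).symm.trans ((congrArg (· ≫ φ) ((freeSheafifyIso J).inv_hom_id_app (yoneda.obj U))).trans (Category.id_comp _))
      map_add' := fun φ ψ => Preadditive.comp_add _ _ _ _ φ ψ }).trans
    (secEquiv J U (ModSite.toAb F))

/-- Sheaves of modules with their sections. -/
noncomputable def modData : SecData J (ModSite.Mod O) where
  G := SheafOfModules.toSheaf (ModSite.ringSh O)
  additive := inferInstance
  preservesEpi := inferInstance
  reflects := inferInstance
  P := freeAt O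
  e := freeAtEquiv O
  e_comp U F F' φ g := by
    have key : (freeSheafifyIso J).inv.app (yoneda.obj U) ≫ freeModEquiv (hSheaf J U) F' (φ ≫ g) =
      ((freeSheafifyIso J).inv.app (yoneda.obj U) ≫ freeModEquiv (hSheaf J U) F φ) ≫
        (SheafOfModules.toSheaf (ModSite.ringSh O)).map g := by
      rw [freeModEquiv_eq, freeModEquiv_eq (hSheaf J U) φ, Functor.map_comp, Category.assoc,
        Category.assoc]
    exact (congrArg (fun x => secEquiv J U (ModSite.toAb F') x) key).trans
      (secEquiv_comp (J := J) U (F := ModSite.toAb F) (G := ModSite.toAb F')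
        ((freeSheafifyIso J).inv.app (yoneda.obj U) ≫ freeModEquiv (hSheaf J U) F φ)
        ((SheafOfModules.toSheaf (ModSite.ringSh O)).map g))
  e_map {U V} f {F} φ := by
    have key : (freeSheafifyIso J).inv.app (yoneda.obj V) ≫
        freeModEquiv (hSheaf J V) F ((freeAt O).map f ≫ φ) =
      CohCx.freeSheafMap J f ≫
        ((freeSheafifyIso J).inv.app (yoneda.obj U) ≫ freeModEquiv (hSheaf J U) F φ) := by
      refine (congrArg (_ ≫ ·) (freeModEquiv_naturality
        ((presheafToSheaf J (Type u)).map (yoneda.map f)) φ)).trans ?_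
      refine ((Category.assoc _ _ _).symm.trans ?_).trans (Category.assoc _ _ _)
      exact congrArg (· ≫ freeModEquiv (hSheaf J U) F φ)
        ((freeSheafifyIso J).inv.naturality (yoneda.map f)).symm
    exact (congrArg (fun x => secEquiv J V (ModSite.toAb F) x) key).trans
      (secEquiv_freeSheafMap (J := J) f (F := ModSite.toAb F)
        ((freeSheafifyIso J).inv.app (yoneda.obj U) ≫ freeModEquiv (hSheaf J U) F φ))

variable [HasDerivedCategory.{w} (ModSite.Mod O)]

/-- Vanishing of cohomology kills classes in the derived category of modules. -/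
lemma vanish_of_subsingleton_HU (F : ModSite.Mod O) (k : ℕ) (U : C)
    (h : Subsingleton (ModSite.HU O F k U)) : (modData O).Vanish U F k := by
  have : HasExt.{u} (ModSite.Mod O) := inferInstance
  obtain ⟨e⟩ := nonempty_ext_freeMod_addEquiv (R := ModSite.ringSh O) (hSheaf J U) F k
  have h₁ : Subsingleton (CohCx.HK (hSheaf J U) (ModSite.toAb F) k) :=
    (hkRepEquiv U (ModSite.toAb F) k).toEquiv.subsingleton_congr.2 h
  have h₂ : Subsingleton (Ext.{u} ((freeAt O).obj U) F k) := e.toEquiv.subsingleton_congr.2 h₁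
  have h₃ := (Ext.homEquiv (X := (freeAt O).obj U) (Y := F) (n := k)).subsingleton_congr.1 h₂
  exact fun φ => @Subsingleton.elim _ h₃ φ 0

lemma locBound_of_subsingleton_HU (A : ObjectProperty (ModSite.Mod O)) (B : Set C)
    (hA : ∀ V ∈ B, ∃ d : ℕ, ∀ T ∈ J V, ∃ (ι : Type u) (Y : ι → C) (g : ∀ i, Y i ⟶ V),
      (∀ i, T.arrows (g i)) ∧ Sieve.ofArrows Y g ∈ J V ∧
      ∀ (i : ι) (F : ModSite.Mod O), A F → ∀ k : ℕ, d < k → Subsingleton (ModSite.HU O F k (Y i))) :
    (modData O).LocBound A B := fun V hV => by
  obtain ⟨d, hd⟩ := hA V hV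
  refine ⟨d, fun T hT => ?_⟩
  obtain ⟨ι, Y, g, h₁, h₂, h₃⟩ := hd T hT
  exact ⟨ι, Y, g, h₁, h₂, fun i F hF k hk => vanish_of_subsingleton_HU O F k (Y i) (h₃ i F hF k hk)⟩

end Groth.Agent.DLimA
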