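import Groth.Agent.SiteBase.DLimA.Equiv
import Groth.Agent.SiteBase.DLimA.ModData
import Groth.Agent.SiteBase.RpushD.Basic

/-!
# Direct images of modules and free modules on objects
-/

set_option autoImplicit false

universe u

open CategoryTheory CategoryTheory.Limits Opposite Abelian

attribute [local instance] HasDerivedCategory.standard

namespace Groth.Agent.DLimA

open Groth.Agent.SiteBase

section Iso

variable {C : Type u} [SmallCategory C] {J : GrothendieckTopology C}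
  {A : Type (u + 1)} [Category.{u} A] [Abelian A] (DA : SecData J A)
  {D : Type u} [SmallCategory D] {K : GrothendieckTopology D}
  {B : Type (u + 1)} [Category.{u} B] [Abelian B] (DB : SecData K B)

/-- Objects corepresenting the same sections are isomorphic. -/
lemma nonempty_iso_P {F : B ⥤ A} {G : A ⥤ B} (adj : F ⊣ G) (U : C) (Y : D)
    (ψ : ∀ Z : A, (DB.G.obj (G.obj Z)).obj.obj (op Y) ≃ (DA.G.obj Z).obj.obj (op U))
    (hψ : ∀ {Z Z' : A} (g : Z ⟶ Z') (x : (DB.G.obj (G.obj Z)).obj.obj (op Y)),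
      ψ Z' (((DB.G.map (G.map g)).hom.app (op Y)).hom x) = ((DA.G.map g).hom.app (op U)).hom (ψ Z x)) :
    Nonempty (F.obj (DB.P.obj Y) ≅ DA.P.obj U) := by
  let ε : ∀ Z, (F.obj (DB.P.obj Y) ⟶ Z) ≃ (DA.G.obj Z).obj.obj (op U) := fun Z =>
    ((adj.homEquiv _ Z).trans (DB.e Y _).toEquiv).trans (ψ Z)
  have hε : ∀ {Z Z' : A} (φ : F.obj (DB.P.obj Y) ⟶ Z) (g : Z ⟶ Z'),
      ε Z' (φ ≫ g) = ((DA.G.map g).hom.app (op U)).hom (ε Z φ) := fun {Z Z'} φ g => by
    refine (congrArg (ψ Z') ((congrArg (DB.e Y _) (adj.homEquiv_naturality_right φ g)).trans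
      (DB.e_comp Y _ _))).trans ?_
    exact hψ g _
  let v := (ε _).symm (DA.e U _ (𝟙 (DA.P.obj U)))
  let u' := (DA.e U _).symm (ε _ (𝟙 (F.obj (DB.P.obj Y))))
  refine ⟨⟨v, u', (ε _).injective ?_, (DA.e U _).injective ?_⟩⟩
  · rw [hε, Equiv.apply_symm_apply, ← DA.e_comp, Category.id_comp, AddEquiv.apply_symm_apply]
  · rw [DA.e_comp, AddEquiv.apply_symm_apply, ← hε, Category.id_comp, Equiv.apply_symm_apply]

end Iso

variable {C : Type u} [SmallCategory C] {J : GrothendieckTopology C} {O_C : Sheaf J CommRingCat.{u}}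
  {D : Type u} [SmallCategory D] {K : GrothendieckTopology D} {O_D : Sheaf K CommRingCat.{u}}
  (f : ModSite.RMor O_C O_D)

theorem good_freeAt (Y : D) : H9Misc.LeftAdjExists.Good f.push ((modData O_D).P.obj Y) :=
  fun E hE n => by
    obtain ⟨e⟩ := nonempty_ext_freeMod_addEquiv (R := ModSite.ringSh O_D) (hSheaf K Y) (f.push.obj E) (n + 1)
    have := @H9Misc.RpushLeftAdj.isTotallyAcyclic_push _ _ _ _ _ _ _ _ f E hE (hSheaf K Y) n
    exact e.toEquiv.subsingleton

theorem nonempty_pull_freeAt_iso (Y : D) :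
    Nonempty (f.pull.obj ((modData O_D).P.obj Y) ≅ (modData O_C).P.obj (f.fn.obj Y)) :=
  nonempty_iso_P (A := ModSite.Mod O_C) (B := ModSite.Mod O_D) (modData O_C) (modData O_D) f.adj
    (f.fn.obj Y) Y (fun _ => Equiv.refl _) (fun _ _ => rfl)

end Groth.Agent.DLimA
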