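import Groth.Agent.SiteBase.DLimA.Tower

/-!
# Equivalences of unbounded derived categories with bounded cohomological dimension
-/

set_option autoImplicit false

universe u

open CategoryTheory CategoryTheory.Limits Pretriangulated DerivedCategory

attribute [local instance] HasDerivedCategory.standard

namespace Groth.Agent.DLimA

open Groth.Agent.SiteBase

variable {C : Type u} [SmallCategory C] {J : GrothendieckTopology C}
  {A : Type (u + 1)} [Category.{u} A] [Abelian A] [IsGrothendieckAbelian.{u} A]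
  {D : Type u} [SmallCategory D] {K : GrothendieckTopology D}
  {B : Type (u + 1)} [Category.{u} B] [Abelian B] [IsGrothendieckAbelian.{u} B]
  (G : A ⥤ B) [G.Additive]
  [(G.mapHomotopyCategory (ComplexShape.up ℤ) ⋙ DerivedCategory.Qh).HasRightDerivedFunctor
    (HomotopyCategory.quasiIso A (ComplexShape.up ℤ))]
  (DA : SecData J A) (DB : SecData K B) {PA : ObjectProperty A} {PB : ObjectProperty B}

local notation "tS" => (DerivedCategory.TStructure.t)
local notation "R" => RpushD.RD G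
local notation "HA" => DerivedCategory.homologyFunctor A
local notation "HB" => DerivedCategory.homologyFunctor B

/-- Bounds upstairs give eventual bijectivity downstairs. -/
theorem eventBijOn_upstairs {F : B ⥤ A} [F.Additive] (adj : F ⊣ G)
    (hgood : ∀ M : B, ∃ (P : B) (π : P ⟶ M), H9Misc.LeftAdjExists.Good G P ∧ Epi π)
    (hP : ∀ Y, H9Misc.LeftAdjExists.Good G (DB.P.obj Y)) (u' : D → C)
    (hu : ∀ Y, Nonempty (F.obj (DB.P.obj Y) ≅ DA.P.obj (u' Y))) {B' : Set D}
    (hA' : ∀ V ∈ B', ∃ d : ℕ, ∀ T ∈ K V, ∃ (ι : Type u) (Y : ι → D) (g : ∀ i, Y i ⟶ V),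
      (∀ i, T.arrows (g i)) ∧ Sieve.ofArrows Y g ∈ K V ∧
      ∀ (i : ι) (M : A), PA M → ∀ k : ℕ, d < k → DA.Vanish (u' (Y i)) M k)
    (X : DerivedCategory A) (hX : WSerre.cohIn PA X) : EventBijOn G DB X B' := by
  intro V hV m
  obtain ⟨d, hd⟩ := hA' V hV
  refine ⟨(d - m + 1).toNat, fun T hT => ?_⟩
  obtain ⟨ι, Y, f, hf, hcov, hv⟩ := hd T hT
  have key : ∀ i (m' : ℤ), m - 1 ≤ m' → m' ≤ m →
      DB.EventBij (K := fun n => (R).obj (CohCx.truncTower X n))
        (fun n => (R).map (CohCx.truncTowerMap X n)) (Y i) m' (d - m + 1).toNat :=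
    fun i m' h₁ h₂ n hn => by
      obtain ⟨e⟩ := hu (Y i)
      have hb := DA.bijective_trunc_step X _ (-(n : ℤ)) (by omega) (u' (Y i)) m'
        fun k hk => hv i _ (hX (-((n + 1 : ℕ) : ℤ))) k (by omega)
      refine RpushD.bijective_transfer adj hgood (DB.P.obj (Y i)) (hP _) (CohCx.truncTowerMap X n) m' ?_
      let σ := (singleFunctor A 0).mapIso e
      refine ⟨fun x y hxy => (cancel_epi σ.inv).1 (hb.1 ?_), fun y => ?_⟩
      · exact (Category.assoc _ _ _).trans ((congrArg (σ.inv ≫ ·) hxy).trans (Category.assoc _ _ _).symm)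
      · obtain ⟨x, hx⟩ := hb.2 (σ.inv ≫ y)
        exact ⟨σ.hom ≫ x, (Category.assoc _ _ _).trans ((congrArg (σ.hom ≫ ·) hx).trans
          (σ.hom_inv_id_assoc y))⟩
  exact ⟨ι, Y, f, hf, hcov, fun i => ⟨key i (m - 1) le_rfl (by omega), key i m (by omega) le_rfl⟩⟩

omit [IsGrothendieckAbelian.{u} B] in
/-- Bounds downstairs give eventual bijectivity downstairs. -/
theorem eventBijOn_downstairs [WSerre.IsWeakSerre PB] {B' : Set D} (hA' : DB.LocBound PB B')
    (N : ℤ)
    (h3 : ∀ M : A, PA M → ∀ i : ℤ, PB ((HB i).obj ((R).obj ((singleFunctor A 0).obj M))))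
    (h4 : ∀ M : A, PA M → ∀ i : ℤ, N < i → IsZero ((HB i).obj ((R).obj ((singleFunctor A 0).obj M))))
    (hPA : ∀ Z : A, IsZero Z → PA Z) [PA.IsClosedUnderIsomorphisms]
    (X : DerivedCategory A) (hX : WSerre.cohIn PA X) : EventBijOn G DB X B' := by
  have hT : ∀ n, WSerre.cohIn PB ((R).obj (CohCx.truncTower X n)) := fun n => by
    have : (CohCx.truncTower X n).IsGE (-(n : ℤ)) := (tS).isGE_truncGE_obj ..
    refine cohIn_RD _ (-(n : ℤ)) fun q i => h3 _ ?_ i
    by_cases hq : -(n : ℤ) ≤ q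
    · have := isIso_toTruncTower X n q hq
      exact PA.prop_of_iso (asIso ((HA q).map (CohCx.toTruncTower X n))) (hX q)
    · exact hPA _ (isZero_of_isGE _ (-(n : ℤ)) q (by omega))
  intro V hV m
  obtain ⟨d, hd⟩ := hA' V hV
  refine ⟨(N - m + d + 2).toNat, fun T hT' => ?_⟩
  obtain ⟨ι, Y, f, hf, hcov, hv⟩ := hd T hT'
  have key : ∀ i (m' : ℤ), m - 1 ≤ m' → m' ≤ m →
      DB.EventBij (K := fun n => (R).obj (CohCx.truncTower X n))
        (fun n => (R).map (CohCx.truncTowerMap X n)) (Y i) m' (N - m + d + 2).toNat :=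
    fun i m' h₁ h₂ n hn => by
      have : (CohCx.truncTower X (n + 1)).IsGE (-((n + 1 : ℕ) : ℤ)) := (tS).isGE_truncGE_obj ..
      have : (CohCx.truncTower X n).IsGE (-(n : ℤ)) := (tS).isGE_truncGE_obj ..
      have : (CohCx.truncTower X n).IsGE (-((n + 1 : ℕ) : ℤ)) := (tS).isGE_of_ge _ _ (-(n : ℤ)) (by omega)
      have := RpushD.isGE_RD G (CohCx.truncTower X (n + 1)) (-((n + 1 : ℕ) : ℤ))
      have := RpushD.isGE_RD G (CohCx.truncTower X n) (-((n + 1 : ℕ) : ℤ))
      exact DB.bijective_of_cohIn _ (-((n + 1 : ℕ) : ℤ)) (hT _) (hT n) (Y i) d (hv i) m' fun q hq _ =>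
        isIso_RD_step G X n q N (by omega) fun k hk => h4 _ (hX _) k hk
  exact ⟨ι, Y, f, hf, hcov, fun i => ⟨key i (m - 1) le_rfl (by omega), key i m (by omega) le_rfl⟩⟩

variable {G}

/-- Cohomology of the derived functor on unbounded objects. -/
theorem cohIn_RD_unbounded [WSerre.IsWeakSerre PA] [WSerre.IsWeakSerre PB] [(R).IsRightAdjoint]
    {BA : Set C} (hBA : DLim.IsCoveredBy J BA) (hA : DA.LocBound PA BA)
    {B' : Set D} (hB' : DLim.IsCoveredBy K B') (N : ℤ)
    (h3 : ∀ M : A, PA M → ∀ i : ℤ, PB ((HB i).obj ((R).obj ((singleFunctor A 0).obj M))))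
    (h4 : ∀ M : A, PA M → ∀ i : ℤ, N < i → IsZero ((HB i).obj ((R).obj ((singleFunctor A 0).obj M))))
    (X : DerivedCategory A) (hX : WSerre.cohIn PA X) (hev : EventBijOn G DB X B') :
    WSerre.cohIn PB ((R).obj X) := by
  intro j
  let n := (N - j).toNat
  have := isIso_RD_trunc DA DB hBA hA hB' N h4 X hX hev n j (by omega)
  refine PB.prop_of_iso (asIso ((HB j).map ((R).map (CohCx.toTruncTower X n)))).symm ?_
  have : (CohCx.truncTower X n).IsGE (-(n : ℤ)) := (tS).isGE_truncGE_obj ..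
  refine cohIn_RD _ (-(n : ℤ)) (fun q i => h3 _ ?_ i) j
  by_cases hq : -(n : ℤ) ≤ q
  · have := isIso_toTruncTower X n q hq
    exact PA.prop_of_iso (asIso ((HA q).map (CohCx.toTruncTower X n))) (hX q)
  · exact PA.prop_of_isZero (isZero_of_isGE _ (-(n : ℤ)) q (by omega))

section Adjoint

variable {L : B ⥤ A} [L.Additive] [PreservesFiniteLimits L] [PreservesFiniteColimits L]
  (adjD : L.mapDerivedCategory ⊣ RpushD.RD G)

omit [IsGrothendieckAbelian.{u} A] [IsGrothendieckAbelian.{u} B] in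
include adjD in
/-- Derived direct images of objects in degree zero, when the unit is invertible. -/
lemma RD_single_of_unit [PA.IsClosedUnderIsomorphisms] [WSerre.IsWeakSerre PB]
    (h2c : ∀ M : A, PA M → ∃ N : B, PB N ∧ Nonempty (L.obj N ≅ M))
    (h3 : ∀ N : B, PB N → IsIso (adjD.unit.app ((singleFunctor B 0).obj N))) (M : A) (hM : PA M)
    (i : ℤ) :
    PB ((HB i).obj ((R).obj ((singleFunctor A 0).obj M))) ∧
      (0 < i → IsZero ((HB i).obj ((R).obj ((singleFunctor A 0).obj M)))) := by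
  obtain ⟨N, hN, ⟨e⟩⟩ := h2c M hM
  have := h3 N hN
  let σ : (R).obj ((singleFunctor A 0).obj M) ≅ (singleFunctor B 0).obj N :=
    (R).mapIso ((singleFunctor A 0).mapIso e.symm ≪≫
      ((L.mapDerivedCategorySingleFunctor 0).app N).symm) ≪≫
      (asIso (adjD.unit.app ((singleFunctor B 0).obj N))).symm
  constructor
  · by_cases hi : i = 0
    · subst hi
      exact PB.prop_of_iso ((HB 0).mapIso σ ≪≫ (singleFunctorCompHomologyFunctorIso B 0).app N).symm hN
    · refine PB.prop_of_isZero (IsZero.of_iso ?_ ((HB i).mapIso σ))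
      rcases lt_or_gt_of_ne hi with h | h
      · exact isZero_of_isGE _ 0 i h
      · exact isZero_of_isLE _ 0 i h
  · exact fun hi => (isZero_of_isLE ((singleFunctor B 0).obj N) 0 i hi).of_iso ((HB i).mapIso σ)

omit [IsGrothendieckAbelian.{u} A] [IsGrothendieckAbelian.{u} B] in
/-- An exact functor preserves bijectivity in cohomology in three consecutive degrees. -/
lemma isIso_homology_mapDerived {Y Y' : DerivedCategory B} (g : Y ⟶ Y') (j : ℤ)
    (h : ∀ q, j - 1 ≤ q → IsIso ((HB q).map g)) :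
    IsIso ((HA j).map (L.mapDerivedCategory.map g)) := by
  obtain ⟨F, f, δ, hT⟩ := distinguished_cocone_triangle₁ g
  have hz : ∀ q, j ≤ q → IsZero ((HA q).obj (L.mapDerivedCategory.obj F)) := fun q hq => by
    obtain ⟨e⟩ := RpushD.nonempty_homology_mapDerived L F q
    refine (L.map_isZero (isZero_fibre hT q ?_ ?_)).of_iso e
    · have := h (q - 1) (by omega); infer_instance
    · have := h q (by omega); infer_instance
  have hT' := L.mapDerivedCategory.map_distinguished _ hT
  have hm : Mono ((HA j).map (L.mapDerivedCategory.map g)) :=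
    (HomologySequence.mono_homologyMap_mor₂_iff _ hT' j).2 ((hz j le_rfl).eq_of_src _ _)
  have he : Epi ((HA j).map (L.mapDerivedCategory.map g)) :=
    (HomologySequence.epi_homologyMap_mor₂_iff _ hT' j (j + 1) rfl).2
      ((hz (j + 1) (by omega)).eq_of_tgt _ _)
  exact @isIso_of_mono_of_epi _ _ _ _ _ _ hm he

include adjD in
/-- The derived functors are quasi-inverse on unbounded objects with cohomology in the classes. -/
theorem equivalence_cohIn [WSerre.IsWeakSerre PA] [WSerre.IsWeakSerre PB]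
    (h2a : ∀ N, PB N → PA (L.obj N))
    (h2b : ∀ N N' : B, PB N → PB N' → Function.Bijective (fun φ : N ⟶ N' => L.map φ))
    (h2c : ∀ M : A, PA M → ∃ N : B, PB N ∧ Nonempty (L.obj N ≅ M))
    (h3 : ∀ N : B, PB N → IsIso (adjD.unit.app ((singleFunctor B 0).obj N)))
    {BA : Set C} (hBA : DLim.IsCoveredBy J BA) (hA : DA.LocBound PA BA)
    {B' : Set D} (hB' : DLim.IsCoveredBy K B')
    (hev : ∀ X, WSerre.cohIn PA X → EventBijOn G DB X B') :
    (∀ Y : DerivedCategory B, WSerre.cohIn PB Y →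
      WSerre.cohIn PA (L.mapDerivedCategory.obj Y) ∧ IsIso (adjD.unit.app Y)) ∧
    (∀ X : DerivedCategory A, WSerre.cohIn PA X →
      WSerre.cohIn PB ((R).obj X) ∧ IsIso (adjD.counit.app X)) := by
  have : (R).IsRightAdjoint := ⟨_, ⟨adjD⟩⟩
  have hR : ∀ X, WSerre.cohIn PA X → WSerre.cohIn PB ((R).obj X) := fun X hX =>
    cohIn_RD_unbounded DA DB hBA hA hB' 0 (fun M hM i => (RD_single_of_unit adjD h2c h3 M hM i).1)
      (fun M hM i hi => (RD_single_of_unit adjD h2c h3 M hM i).2 hi) X hX (hev X hX)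
  have hL : ∀ Y, WSerre.cohIn PB Y → WSerre.cohIn PA (L.mapDerivedCategory.obj Y) := fun Y hY i => by
    obtain ⟨e⟩ := RpushD.nonempty_homology_mapDerived L Y i
    exact PA.prop_of_iso e.symm (h2a _ (hY i))
  have hε : ∀ X, WSerre.cohIn PA X → IsIso (adjD.counit.app X) := fun X hX => by
    refine (DerivedCategory.isIso_iff _ _).2 fun j => ?_
    let n := (1 - j).toNat
    have h₁ : IsIso ((HA j).map (L.mapDerivedCategory.map ((R).map (CohCx.toTruncTower X n)))) :=
      isIso_homology_mapDerived _ j fun q hq => isIso_RD_trunc DA DB hBA hA hB' 0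
        (fun M hM i hi => (RD_single_of_unit adjD h2c h3 M hM i).2 hi) X hX (hev X hX) n q (by omega)
    have h₂ := isIso_toTruncTower X n j (by omega)
    have hT : (CohCx.truncTower X n).IsGE (-(n : ℤ)) := (tS).isGE_truncGE_obj ..
    have hTc : WSerre.cohInPlus PA (CohCx.truncTower X n) := ⟨fun q => by
      by_cases hq : -(n : ℤ) ≤ q
      · have := isIso_toTruncTower X n q hq
        exact PA.prop_of_iso (asIso ((HA q).map (CohCx.toTruncTower X n))) (hX q)
      · exact PA.prop_of_isZero (isZero_of_isGE _ (-(n : ℤ)) q (by omega)), ⟨_, hT⟩⟩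
    have := ((RpushD.equivalence_plus L adjD h2a h2c h3).2 _ hTc).2
    have e := congrArg (HA j).map (adjD.counit.naturality (CohCx.toTruncTower X n))
    rw [Functor.map_comp, Functor.map_comp] at e
    exact @IsIso.of_isIso_fac_right _ _ _ _ _ _ _ _ h₂ (@IsIso.comp_isIso _ _ _ _ _ _ _ h₁
      ((HA j).map_isIso (adjD.counit.app (CohCx.truncTower X n)))) e.symm
  refine ⟨fun Y hY => ⟨hL Y hY, ?_⟩, fun X hX => ⟨hR X hX, hε X hX⟩⟩
  let X := L.mapDerivedCategory.obj Y
  let η := adjD.unit.app Y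
  have := hε X (hL Y hY)
  have : IsIso (L.mapDerivedCategory.map η) :=
    @IsIso.of_isIso_fac_right _ _ _ _ _ _ _ _ (hε X (hL Y hY)) (IsIso.id _)
      (adjD.left_triangle_components Y)
  obtain ⟨F, f, δ, hT⟩ := distinguished_cocone_triangle₁ η
  refine (Triangle.isZero₁_iff_isIso₂ _ hT).1 ?_
  have hF : WSerre.cohIn PB F :=
    RpushD.cohIn_obj₂ _ (inv_rot_of_distTriang _ hT) (RpushD.cohIn_shift (hR X (hL Y hY)) (-1)) hY
  have hz : IsZero (L.mapDerivedCategory.obj F) :=
    (Triangle.isZero₁_iff_isIso₂ _ (L.mapDerivedCategory.map_distinguished _ hT)).2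
      (show IsIso (L.mapDerivedCategory.map η) from inferInstance)
  have key : ∀ q, IsZero ((HB q).obj F) := fun q =>
    (IsZero.iff_id_eq_zero _).2 ((h2b _ _ (hF q) (hF q)).1 (by
      obtain ⟨e⟩ := RpushD.nonempty_homology_mapDerived L F q
      exact (((HA q).map_isZero hz).of_iso e.symm).eq_of_src _ _))
  have : F.IsGE 0 := (isGE_iff _ _).2 fun q _ => key q
  have : F.IsLE (-1) := (isLE_iff _ _).2 fun q _ => key q
  exact (tS).isZero F (-1) 0 (by omega)

end Adjoint

end Groth.Agent.DLimA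

namespace Groth.Agent.DLimA

open Groth.Agent.SiteBase

variable {A : Type (u + 1)} [Category.{u} A] [Abelian A] [IsGrothendieckAbelian.{u} A]
  {B : Type (u + 1)} [Category.{u} B] [Abelian B]
  (G : A ⥤ B) [G.Additive] [HasInjectiveResolutions A]
  [(G.mapHomotopyCategory (ComplexShape.up ℤ) ⋙ DerivedCategory.Qh).HasRightDerivedFunctor
    (HomotopyCategory.quasiIso A (ComplexShape.up ℤ))]

/-- A condition on higher direct images, in the derived category. -/
lemma prop_homology_RD_single (P : ObjectProperty B) [P.IsClosedUnderIsomorphisms]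
    (h0 : ∀ Z : B, IsZero Z → P Z) (M : A) (i : ℤ)
    (h : ∀ p : ℕ, (p : ℤ) = i → P ((G.rightDerived p).obj M)) :
    P ((DerivedCategory.homologyFunctor B i).obj
      ((RpushD.RD G).obj ((DerivedCategory.singleFunctor A 0).obj M))) := by
  by_cases hi : 0 ≤ i
  · obtain ⟨p, rfl⟩ := Int.eq_ofNat_of_zero_le hi
    obtain ⟨e⟩ := RpushD.nonempty_homology_RD_single G M p
    exact P.prop_of_iso e.symm (h p rfl)
  · have := RpushD.isGE_RD G ((DerivedCategory.singleFunctor A 0).obj M) 0
    exact h0 _ (isZero_of_isGE _ 0 i (by omega))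

lemma isZero_homology_RD_single (M : A) (i : ℤ)
    (h : ∀ p : ℕ, (p : ℤ) = i → IsZero ((G.rightDerived p).obj M)) :
    IsZero ((DerivedCategory.homologyFunctor B i).obj
      ((RpushD.RD G).obj ((DerivedCategory.singleFunctor A 0).obj M))) := by
  have : ObjectProperty.IsClosedUnderIsomorphisms (IsZero : ObjectProperty B) :=
    ⟨fun e h => h.of_iso e.symm⟩
  exact prop_homology_RD_single G IsZero (fun _ h => h) M i h

end Groth.Agent.DLimA
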