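import Groth.Agent.SiteBase.DLimA.Equiv
import Mathlib.Algebra.Homology.DerivedCategory.SingleTriangle
import Mathlib.CategoryTheory.Adjunction.FullyFaithful

/-!
# Fully faithful direct images with locally acyclic classes
-/

set_option autoImplicit false

universe u

open CategoryTheory CategoryTheory.Limits Pretriangulated DerivedCategory Opposite

attribute [local instance] HasDerivedCategory.standard

namespace Groth.Agent.DLimA

open Groth.Agent.SiteBase

variable {C : Type u} [SmallCategory C] {J : GrothendieckTopology C}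
  {A : Type (u + 1)} [Category.{u} A] [Abelian A] [IsGrothendieckAbelian.{u} A]
  {D : Type u} [SmallCategory D] {K : GrothendieckTopology D}
  {B : Type (u + 1)} [Category.{u} B] [Abelian B] [IsGrothendieckAbelian.{u} B]
  (DA : SecData J A) (DB : SecData K B) [DB.G.Faithful]
  {F : B ⥤ A} {G : A ⥤ B} [F.Additive] [G.Additive] (adj : F ⊣ G)
  [(G.mapHomotopyCategory (ComplexShape.up ℤ) ⋙ DerivedCategory.Qh).HasRightDerivedFunctor
    (HomotopyCategory.quasiIso A (ComplexShape.up ℤ))]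
  (u' : D → C) (hu : ∀ Y, Nonempty (F.obj (DB.P.obj Y) ≅ DA.P.obj (u' Y)))
  {PA : ObjectProperty A} {B' : Set D} (hB' : DLim.IsCoveredBy K B')
  (hv : ∀ Y ∈ B', ∀ M : A, PA M → ∀ k : ℕ, 0 < k → DA.Vanish (u' Y) M k)

omit [IsGrothendieckAbelian.{u} B] in
/-- An object with locally vanishing sections is zero. -/
lemma SecData.isZero_of_locally (X : B) {B' : Set D} (hB' : DLim.IsCoveredBy K B')
    (h : ∀ V ∈ B', ∀ s : (DB.G.obj X).obj.obj (op V), ∃ R ∈ K V, ∀ (W : D) (f : W ⟶ V), R f →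
      ((DB.G.obj X).obj.map f.op).hom s = 0) : IsZero X := by
  refine (IsZero.iff_id_eq_zero X).2 (DB.G.map_injective ?_)
  rw [CategoryTheory.Functor.map_id, Functor.map_zero]
  refine CategoryTheory.Sheaf.hom_ext (NatTrans.ext (funext fun U => ?_))
  ext (s : (DB.G.obj X).obj.obj (op U.unop))
  show s = 0
  obtain ⟨ι, Y, f, hf, hY⟩ := hB' U.unop
  refine DLim.sections_separated _ hf s 0 ?_
  rintro Z g ⟨Z', b, c, ⟨i⟩, rfl⟩
  rw [map_zero]
  have key : ((DB.G.obj X).obj.map (f i).op).hom s = 0 := by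
    obtain ⟨R, hR, h₀⟩ := h _ (hY i) (((DB.G.obj X).obj.map (f i).op).hom s)
    refine DLim.sections_separated _ hR _ 0 fun W g hg => ?_
    rw [h₀ W g hg, map_zero]
  rw [op_comp, Functor.map_comp]
  show ((DB.G.obj X).obj.map b.op).hom (((DB.G.obj X).obj.map (f i).op).hom s) = 0
  rw [key, map_zero]

include adj hu hB' hv in
/-- No higher direct images of the class. -/
lemma isLE_RD_single [(RpushD.RD G).IsRightAdjoint]
    (hgood : ∀ M : B, ∃ (P : B) (π : P ⟶ M), H9Misc.LeftAdjExists.Good G P ∧ Epi π)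
    (hP : ∀ Y, H9Misc.LeftAdjExists.Good G (DB.P.obj Y)) (M : A) (hM : PA M) :
    ((RpushD.RD G).obj ((singleFunctor A 0).obj M)).IsLE 0 := by
  let S := (singleFunctor A 0).obj M
  refine (isLE_iff _ _).2 fun i hi => DB.isZero_of_locally _ hB' fun V _ s => ?_
  obtain ⟨R, hR, hl⟩ := DB.exists_cover_cls_lift ((RpushD.RD G).obj S) i V s
  obtain ⟨ι, Yf, f, hf, hcov, hY⟩ := hB'.refine_cover V hR
  refine ⟨_, hcov, ?_⟩
  rintro W g ⟨W', b, c, ⟨j⟩, rfl⟩
  obtain ⟨x, hx⟩ := hl _ (f j) (hf j)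
  obtain ⟨k, rfl⟩ := Int.eq_ofNat_of_zero_le hi.le
  obtain ⟨e⟩ := hu (Yf j)
  have h0 : ∀ φ : (singleFunctor A 0).obj (F.obj (DB.P.obj (Yf j))) ⟶ S⟦(k : ℤ)⟧, φ = 0 := fun φ =>
    (cancel_epi ((singleFunctor A 0).mapIso e).inv).1
      ((hv _ (hY j) M hM k (by omega) _).trans comp_zero.symm)
  have hb := RpushD.bijective_transfer adj hgood (DB.P.obj (Yf j)) (hP _) (0 : S ⟶ S) (k : ℤ)
    ⟨fun x y _ => (h0 x).trans (h0 y).symm, fun y => ⟨0, (h0 _).trans (h0 y).symm⟩⟩
  have hx0 : x = 0 := hb.1 (by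
    show x ≫ ((RpushD.RD G).map (0 : S ⟶ S))⟦(k : ℤ)⟧' = 0 ≫ _
    rw [Functor.map_zero, Functor.map_zero, comp_zero, comp_zero])
  rw [hx0, map_zero] at hx
  rw [op_comp, Functor.map_comp]
  show ((DB.G.obj _).obj.map b.op).hom (((DB.G.obj _).obj.map (f j).op).hom s) = 0
  rw [← hx, map_zero]

omit [IsGrothendieckAbelian.{u} A] [IsGrothendieckAbelian.{u} B] in
include adj hu hB' hv in
omit [(G.mapHomotopyCategory (ComplexShape.up ℤ) ⋙ DerivedCategory.Qh).HasRightDerivedFunctor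
    (HomotopyCategory.quasiIso A (ComplexShape.up ℤ))] in
omit [F.Additive] [G.Additive] in
/-- The direct image of an epimorphism with kernel in the class is an epimorphism. -/
lemma epi_map_G {S : ShortComplex A} (hS : S.ShortExact) (h₁ : PA S.X₁) : Epi (G.map S.g) := by
  refine Preadditive.epi_of_cancel_zero _ fun {Z} φ hφ => DB.G.map_injective ?_
  rw [Functor.map_zero]
  refine CategoryTheory.Sheaf.hom_ext (NatTrans.ext (funext fun U => ?_))
  ext (s : (DB.G.obj (G.obj S.X₃)).obj.obj (op U.unop))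
  show ((DB.G.map φ).hom.app (op U.unop)).hom s = 0
  obtain ⟨ι, Yf, f, hf, hY⟩ := hB' U.unop
  refine DLim.sections_separated _ hf _ 0 ?_
  rintro W g ⟨W', b, c, ⟨i⟩, rfl⟩
  rw [map_zero]
  have key : ((DB.G.obj Z).obj.map (f i).op).hom (((DB.G.map φ).hom.app (op U.unop)).hom s) = 0 := by
    refine (ConcreteCategory.congr_hom ((DB.G.map φ).hom.naturality (f i).op) s).symm.trans ?_
    obtain ⟨t, ht⟩ : ∃ t, DB.e _ _ t = ((DB.G.obj (G.obj S.X₃)).obj.map (f i).op).hom s :=
      ⟨_, AddEquiv.apply_symm_apply _ _⟩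
    obtain ⟨e⟩ := hu (Yf i)
    let t' : DA.P.obj (u' (Yf i)) ⟶ S.X₃ := e.inv ≫ (adj.homEquiv _ _).symm t
    have h0 : (singleFunctor A 0).map t' ≫ hS.singleδ = 0 := hv _ (hY i) S.X₁ h₁ 1 one_pos _
    obtain ⟨y, hy⟩ := Triangle.coyoneda_exact₃ _ hS.singleTriangle_distinguished
      ((singleFunctor A 0).map t') h0
    obtain ⟨y', rfl⟩ := (singleFunctor A 0).map_surjective y
    have hy' : t' = y' ≫ S.g :=
      (singleFunctor A 0).map_injective (hy.trans (Functor.map_comp _ _ _).symm)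
    have e1 : t = adj.homEquiv _ _ (e.hom ≫ y') ≫ G.map S.g := by
      rw [← adj.homEquiv_naturality_right, Category.assoc, ← hy']
      simp [t']
    show ((DB.G.map φ).hom.app (op (Yf i))).hom (((DB.G.obj (G.obj S.X₃)).obj.map (f i).op).hom s) = 0
    rw [← ht, ← DB.e_comp, e1, Category.assoc, hφ, comp_zero, map_zero]
  rw [op_comp, Functor.map_comp]
  show ((DB.G.obj Z).obj.map b.op).hom _ = 0
  exact (congrArg (fun v => ((DB.G.obj Z).obj.map b.op).hom v) key).trans (map_zero _)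

omit [IsGrothendieckAbelian.{u} A] [IsGrothendieckAbelian.{u} B] in
omit [(G.mapHomotopyCategory (ComplexShape.up ℤ) ⋙ DerivedCategory.Qh).HasRightDerivedFunctor
    (HomotopyCategory.quasiIso A (ComplexShape.up ℤ))] [F.Additive] [G.Additive] [Abelian A] [Abelian B] in
include adj in
lemma isIso_unit_of_map [G.Full] [G.Faithful] {N : B} (hN : PA.map G N) :
    IsIso (adj.unit.app N) := by
  obtain ⟨M, -, ⟨i⟩⟩ := hN
  refine (NatTrans.isIso_app_iff_of_iso adj.unit i).1 ?_
  exact @IsIso.of_isIso_fac_right _ _ _ _ _ _ _ _ (G.map_isIso _) (IsIso.id _)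
    (adj.right_triangle_components M)

include adj hu hB' hv in
omit [(G.mapHomotopyCategory (ComplexShape.up ℤ) ⋙ DerivedCategory.Qh).HasRightDerivedFunctor
    (HomotopyCategory.quasiIso A (ComplexShape.up ℤ))] in
omit [IsGrothendieckAbelian.{u} A] [IsGrothendieckAbelian.{u} B] in
/-- The image of the class is weak Serre. -/
theorem isWeakSerre_map [G.Full] [G.Faithful] [PreservesFiniteLimits F] [WSerre.IsWeakSerre PA] :
    WSerre.IsWeakSerre (PA.map G) := by
  have : PreservesColimitsOfSize.{0, 0} F := adj.leftAdjoint_preservesColimits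
  have : PreservesLimitsOfSize.{0, 0} G := adj.rightAdjoint_preservesLimits
  have hk : ∀ {X Y : B} (φ : X ⟶ Y), PA.map G X → PA.map G Y →
      ∃ (M M' : A) (ψ : M ⟶ M'), PA M ∧ PA M' ∧ Nonempty (Arrow.mk φ ≅ Arrow.mk (G.map ψ)) := by
    rintro X Y φ ⟨M, hM, ⟨i⟩⟩ ⟨M', hM', ⟨i'⟩⟩
    obtain ⟨ψ, hψ⟩ := G.map_surjective (i.hom ≫ φ ≫ i'.inv)
    exact ⟨M, M', ψ, hM, hM', ⟨Arrow.isoMk i.symm i'.symm (by simp [hψ])⟩⟩
  have h0 : (PA.map G).ContainsZero := by
    obtain ⟨Z, hZ, hPZ⟩ := PA.exists_prop_of_containsZero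
    exact ⟨⟨G.obj Z, G.map_isZero hZ, Z, hPZ, ⟨Iso.refl _⟩⟩⟩
  have h1 : (PA.map G).IsClosedUnderKernels := ⟨by
    rintro _ ⟨φ, k, hk', hφ⟩
    obtain ⟨M, M', ψ, hM, hM', ⟨a⟩⟩ := hk φ hφ.1 hφ.2
    exact ⟨kernel ψ, PA.prop_kernel ψ hM hM', ⟨PreservesKernel.iso G ψ ≪≫
      (kernel.mapIso φ (G.map ψ) (Arrow.leftFunc.mapIso a) (Arrow.rightFunc.mapIso a)
        a.hom.w.symm).symm ≪≫
      ((kernelIsKernel φ).conePointUniqueUpToIso hk')⟩⟩⟩
  have h2 : (PA.map G).IsClosedUnderCokernels := ⟨by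
    rintro _ ⟨φ, k, hk', hφ⟩
    obtain ⟨M, M', ψ, hM, hM', ⟨a⟩⟩ := hk φ hφ.1 hφ.2
    let c := cokernel.π ψ
    let T := ShortComplex.mk (kernel.ι c) c (kernel.condition c)
    have hT : T.ShortExact :=
      ShortComplex.ShortExact.mk' (ShortComplex.exact_of_f_is_kernel _ (kernelIsKernel c))
        inferInstance inferInstance
    have hk₁ : PA (kernel c) := PA.prop_kernel c hM' (PA.prop_cokernel ψ hM hM')
    have hc : Epi (G.map c) := epi_map_G DA DB adj u' hu hB' hv hT hk₁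
    let l := kernel.lift c ψ (cokernel.condition ψ)
    have : Epi l := (ShortComplex.exact_of_g_is_cokernel (ShortComplex.mk ψ c (cokernel.condition ψ))
      (cokernelIsCokernel ψ)).epi_kernelLift
    have hl : Epi (G.map l) := epi_map_G DA DB adj u' hu hB' hv
      (S := ShortComplex.mk (kernel.ι l) l (kernel.condition l))
      (ShortComplex.ShortExact.mk' (ShortComplex.exact_of_f_is_kernel _ (kernelIsKernel l))
        inferInstance inferInstance) (PA.prop_kernel l hM hk₁)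
    let U : ShortComplex B := ShortComplex.mk (G.map ψ) (G.map c)
      (by rw [← G.map_comp, cokernel.condition, G.map_zero])
    have hTG : (T.map G).Exact := ShortComplex.exact_of_f_is_kernel _
      ((KernelFork.ofι (kernel.ι c) (kernel.condition c)).mapIsLimit (kernelIsKernel c) G)
    let θ : U ⟶ T.map G :=
      { τ₁ := G.map l, τ₂ := 𝟙 (G.obj M'), τ₃ := 𝟙 (G.obj (cokernel ψ)),
        comm₁₂ := ((G.map_comp _ _).symm.trans (congrArg G.map (kernel.lift_ι c ψ _))).trans
          (Category.comp_id _).symm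
        comm₂₃ := (Category.id_comp _).trans (Category.comp_id _).symm }
    have : Epi θ.τ₁ := hl
    have : IsIso θ.τ₂ := inferInstanceAs (IsIso (𝟙 (G.obj M')))
    have : Mono θ.τ₃ := inferInstanceAs (Mono (𝟙 (G.obj (cokernel ψ))))
    have hU : U.Exact := (ShortComplex.exact_iff_of_epi_of_isIso_of_mono θ).2 hTG
    exact ⟨cokernel ψ, PA.prop_cokernel ψ hM hM',
      ⟨hU.gIsCokernel.coconePointUniqueUpToIso (cokernelIsCokernel (G.map ψ)) ≪≫
      (cokernel.mapIso φ (G.map ψ) (Arrow.leftFunc.mapIso a) (Arrow.rightFunc.mapIso a)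
        a.hom.w.symm).symm ≪≫
      ((cokernelIsCokernel φ).coconePointUniqueUpToIso hk')⟩⟩⟩
  have h3 : (PA.map G).IsClosedUnderExtensions := ⟨fun {S} hS h₁ h₃ => by
    have hFS : (S.map F).ShortExact := hS.map_of_exact F
    have hF : ∀ {N : B}, PA.map G N → PA (F.obj N) := by
      rintro N ⟨M, hM, ⟨i⟩⟩
      exact PA.prop_of_iso ((asIso (adj.counit.app M)).symm ≪≫ F.mapIso i) hM
    have h₂ : PA (F.obj S.X₂) := PA.prop_X₂_of_shortExact hFS (hF h₁) (hF h₃)
    have hGF : ((S.map F).map G).ShortExact := ShortComplex.ShortExact.mk'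
      (ShortComplex.exact_of_f_is_kernel _ ((KernelFork.ofι _ _).mapIsLimit hFS.fIsKernel G))
      (by have := hFS.mono_f; exact G.map_mono (S.map F).f)
      (epi_map_G DA DB adj u' hu hB' hv hFS (hF h₁))
    let ν : S ⟶ (S.map F).map G :=
      { τ₁ := adj.unit.app _, τ₂ := adj.unit.app _, τ₃ := adj.unit.app _,
        comm₁₂ := (adj.unit.naturality S.f).symm, comm₂₃ := (adj.unit.naturality S.g).symm }
    have : IsIso ν.τ₁ := isIso_unit_of_map adj h₁
    have : IsIso ν.τ₃ := isIso_unit_of_map adj h₃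
    have : IsIso ν.τ₂ := ShortComplex.isIso₂_of_shortExact_of_isIso₁₃ ν hS hGF
    exact ⟨F.obj S.X₂, h₂, ⟨(asIso ν.τ₂).symm⟩⟩⟩
  exact {}

include adj hu hB' hv in
/-- The derived adjunction of a fully faithful direct image on a locally acyclic class. -/
theorem equivalence_of_fullyFaithful [G.Full] [G.Faithful] [PreservesFiniteLimits F]
    [PreservesFiniteColimits F] [WSerre.IsWeakSerre PA]
    (adjD : F.mapDerivedCategory ⊣ RpushD.RD G)
    (hgood : ∀ M : B, ∃ (P : B) (π : P ⟶ M), H9Misc.LeftAdjExists.Good G P ∧ Epi π)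
    (hP : ∀ Y, H9Misc.LeftAdjExists.Good G (DB.P.obj Y))
    {BA : Set C} (hBA : DLim.IsCoveredBy J BA) (hA : DA.LocBound PA BA) :
    WSerre.IsWeakSerre (PA.map G) ∧
    (∀ Y : DerivedCategory B, WSerre.cohIn (PA.map G) Y →
      WSerre.cohIn PA (F.mapDerivedCategory.obj Y) ∧ IsIso (adjD.unit.app Y)) ∧
    (∀ X : DerivedCategory A, WSerre.cohIn PA X →
      WSerre.cohIn (PA.map G) ((RpushD.RD G).obj X) ∧ IsIso (adjD.counit.app X)) := by
  have : (RpushD.RD G).IsRightAdjoint := ⟨_, ⟨adjD⟩⟩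
  have := isWeakSerre_map DA DB adj u' hu hB' hv
  have h2a : ∀ N, PA.map G N → PA (F.obj N) := by
    rintro N ⟨M, hM, ⟨i⟩⟩
    exact PA.prop_of_iso ((asIso (adj.counit.app M)).symm ≪≫ F.mapIso i) hM
  have hbij : ∀ Z N : B, PA.map G N → Function.Bijective (fun φ : Z ⟶ N => F.map φ) := fun Z N hN => by
    have := isIso_unit_of_map adj hN
    have he : (fun φ : Z ⟶ N => F.map φ) =
        (adj.homEquiv Z (F.obj N)).symm ∘ (fun φ => φ ≫ adj.unit.app N) := funext fun φ => by
      apply (adj.homEquiv Z (F.obj N)).injective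
      rw [Function.comp_apply, Equiv.apply_symm_apply, Adjunction.homEquiv_unit]
      exact (adj.unit.naturality φ).symm
    rw [he]
    exact (Equiv.bijective _).comp ((asIso (adj.unit.app N)).homToEquiv.bijective)
  have h3 : ∀ N : B, PA.map G N → IsIso (adjD.unit.app ((singleFunctor B 0).obj N)) := fun N hN => by
    let σ := fun Z => (F.mapDerivedCategorySingleFunctor 0).app Z
    let η := adjD.unit.app ((singleFunctor B 0).obj N)
    let W := (RpushD.RD G).obj (F.mapDerivedCategory.obj ((singleFunctor B 0).obj N))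
    have hW : W.IsLE 0 := by
      have := isLE_RD_single DA DB adj u' hu hB' hv hgood hP (F.obj N) (h2a N hN)
      exact (DerivedCategory.TStructure.t).isLE_of_iso ((RpushD.RD G).mapIso (σ N).symm :
        (RpushD.RD G).obj ((singleFunctor A 0).obj (F.obj N)) ≅ W) 0
    have hW' : W.IsGE 0 := by
      have := RpushD.isGE_RD G ((singleFunctor A 0).obj (F.obj N)) 0
      exact (DerivedCategory.TStructure.t).isGE_of_iso ((RpushD.RD G).mapIso (σ N).symm :
        (RpushD.RD G).obj ((singleFunctor A 0).obj (F.obj N)) ≅ W) 0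
    obtain ⟨W₀, ⟨eW⟩⟩ := exists_iso_singleFunctor_obj_of_isGE_of_isLE W 0
    obtain ⟨ν, hν⟩ := (singleFunctor B 0).map_surjective (η ≫ eW.hom)
    have hb : ∀ Z : B, Function.Bijective (fun ψ : Z ⟶ N => ψ ≫ ν) := fun Z => by
      have e1 : Function.Bijective (fun ψ : Z ⟶ N =>
          F.mapDerivedCategory.map ((singleFunctor B 0).map ψ)) := by
        have e2 : (fun ψ : Z ⟶ N => F.mapDerivedCategory.map ((singleFunctor B 0).map ψ)) =
            (fun φ => (σ Z).hom ≫ φ ≫ (σ N).inv) ∘ (singleFunctor A 0).map ∘ (fun ψ => F.map ψ) :=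
          funext fun ψ => ((NatIso.naturality_2 (F.mapDerivedCategorySingleFunctor 0) ψ).symm)
        rw [e2]
        exact (((σ Z).homCongr (σ N)).symm.bijective).comp
          (((Functor.FullyFaithful.ofFullyFaithful (singleFunctor A 0)).map_bijective _ _).comp (hbij Z N hN))
      have e3 := ((adjD.homEquiv _ _).bijective.comp e1)
      have e4 : (singleFunctor B 0).map ∘ (fun ψ : Z ⟶ N => ψ ≫ ν) = (fun φ => φ ≫ eW.hom) ∘
          ((adjD.homEquiv _ _) ∘ fun ψ : Z ⟶ N => F.mapDerivedCategory.map ((singleFunctor B 0).map ψ)) :=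
        funext fun ψ => by
          simp only [Function.comp_apply, Functor.map_comp, hν, Adjunction.homEquiv_unit]
          exact (Category.assoc _ _ _).symm.trans
            (congrArg (· ≫ eW.hom) (adjD.unit.naturality ((singleFunctor B 0).map ψ)))
      refine (Function.Bijective.of_comp_iff'
        ((Functor.FullyFaithful.ofFullyFaithful (singleFunctor B 0)).map_bijective _ _) _).1 ?_
      rw [e4]
      exact eW.homToEquiv.bijective.comp e3
    have : IsIso ν := isIso_of_yoneda_map_bijective _ hb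
    have : IsIso (η ≫ eW.hom) := hν ▸ inferInstance
    exact IsIso.of_isIso_comp_right η eW.hom
  refine ⟨this, equivalence_cohIn DA DB adjD h2a (fun N N' _ hN' => hbij N N' hN')
    (fun M hM => ⟨G.obj M, ⟨M, hM, ⟨Iso.refl _⟩⟩, ⟨asIso (adj.counit.app M)⟩⟩) h3 hBA hA hB' ?_⟩
  intro X hX
  refine eventBijOn_upstairs G DA DB adj hgood hP u' hu (fun V hV => ⟨0, fun T hT => ?_⟩) X hX
  obtain ⟨ι, Y, f, hf, hcov, hY⟩ := hB'.refine_cover V hT
  exact ⟨ι, Y, f, hf, hcov, fun i M hM k hk => hv _ (hY i) M hM k hk⟩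

end Groth.Agent.DLimA
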