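import Groth.Prelude.Def_SiteCmp
import Mathlib.Algebra.Category.ModuleCat.Sheaf.PushforwardContinuous

/-!
# Modules for two topologies
-/

set_option autoImplicit false

universe u

open CategoryTheory CategoryTheory.Limits Opposite

namespace Groth.Agent.DLimA

variable {C : Type u} [SmallCategory C] {J J' : GrothendieckTopology C} (h : J' ≤ J)
  (O : Sheaf J CommRingCat.{u})

instance faithful_eps_push : (SiteCmp.eps h O).push.Faithful where
  map_injective {F F'} a b hab := by
    refine SheafOfModules.hom_ext (PresheafOfModules.hom_ext fun U => ?_)
    ext x
    exact congrArg (fun t => (t.val.app U).hom x) hab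

instance full_eps_push : (SiteCmp.eps h O).push.Full where
  map_surjective {F F'} g := by
    let φ : F.val.presheaf ⟶ F'.val.presheaf :=
      { app := fun U => AddCommGrpCat.ofHom
          { toFun := fun x => (g.val.app U).hom x
            map_zero' := map_zero (g.val.app U).hom
            map_add' := fun x y => map_add (g.val.app U).hom x y }
        naturality := fun U V f => by
          ext x
          exact PresheafOfModules.naturality_apply g.val f x }
    refine ⟨⟨PresheafOfModules.homMk φ fun U r x => (g.val.app U).hom.map_smul r x⟩, ?_⟩
    refine SheafOfModules.hom_ext (PresheafOfModules.hom_ext fun U => ?_)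
    ext x
    rfl

end Groth.Agent.DLimA
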