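import Groth.Agent.SiteBase.DLimA.Single
import Mathlib.CategoryTheory.Sites.EpiMono
import Mathlib.CategoryTheory.Sites.LocallyBijective
import Mathlib.Algebra.Category.Grp.Abelian
import Mathlib.CategoryTheory.Sites.Abelian
import Groth.Agent.SiteBase.Sections

/-!
# Abelian categories with sheaves of sections
-/

set_option autoImplicit false

universe w u

open CategoryTheory CategoryTheory.Limits Opposite

namespace Groth.Agent.DLimA

variable {C : Type u} [SmallCategory C] {J : GrothendieckTopology C}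
  {A : Type (u + 1)} [Category.{u} A] [Abelian A]

variable (J A) in
/-- An exact conservative functor to abelian sheaves whose sections are corepresented. -/
structure SecData where
  /-- the underlying sheaf -/
  G : A ⥤ Sheaf J AddCommGrpCat.{u}
  additive : G.Additive
  preservesEpi : G.PreservesEpimorphisms
  reflects : G.ReflectsIsomorphisms
  /-- the corepresenting objects -/
  P : C ⥤ A
  /-- sections as morphisms -/
  e : ∀ (U : C) (F : A), (P.obj U ⟶ F) ≃+ (G.obj F).obj.obj (op U)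
  e_comp : ∀ (U : C) {F F' : A} (φ : P.obj U ⟶ F) (g : F ⟶ F'),
    e U F' (φ ≫ g) = ((G.map g).hom.app (op U)).hom (e U F φ)
  e_map : ∀ {U V : C} (f : V ⟶ U) {F : A} (φ : P.obj U ⟶ F),
    e V F (P.map f ≫ φ) = ((G.obj F).obj.map f.op).hom (e U F φ)

attribute [instance] SecData.additive SecData.preservesEpi SecData.reflects

namespace SecData

variable (D : SecData J A)

lemma exists_lift {A' B : A} (p : A' ⟶ B) [Epi p] {U : C} (s : D.P.obj U ⟶ B) :
    ∃ R ∈ J U, ∀ (V : C) (f : V ⟶ U), R f →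
      ∃ a : D.P.obj V ⟶ A', a ≫ p = D.P.map f ≫ s := by
  have : Sheaf.IsLocallySurjective (D.G.map p) :=
    (Sheaf.isLocallySurjective_iff_epi' _ (D.G.map p)).2 (D.G.map_epi p)
  refine ⟨_, Presheaf.imageSieve_mem J (D.G.map p).hom (U := op U) (D.e U B s), fun V f hf => ?_⟩
  obtain ⟨t, ht⟩ := hf
  refine ⟨(D.e V A').symm t, (D.e V B).injective ?_⟩
  rw [D.e_comp, AddEquiv.apply_symm_apply, D.e_map]
  exact ht

end SecData

variable [HasDerivedCategory.{w} A] (D : SecData J A)

/-- Locally injective. -/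
lemma SecData.exists_cover_eq_zero {U : C} {M : DerivedCategory A}
    (φ : (DerivedCategory.singleFunctor _ 0).obj (D.P.obj U) ⟶ M) (hφ : h0 φ = 0) :
    ∃ R ∈ J U, ∀ (V : C) (f : V ⟶ U), R f →
      (DerivedCategory.singleFunctor _ 0).map (D.P.map f) ≫ φ = 0 := by
  obtain ⟨i⟩ : Nonempty (DerivedCategory.Q.obj (DerivedCategory.Q.objPreimage M) ≅ M) :=
    ⟨DerivedCategory.Q.objObjPreimageIso M⟩
  obtain ⟨L, g, s, hs, hg⟩ := DerivedCategory.left_fac
    (X := sgl (D.P.obj U)) (φ ≫ i.inv)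
  obtain ⟨z, hz⟩ := exists_cycle g
  have h1 : h0 (F := D.P.obj U) (DerivedCategory.Q.map g) = 0 := by
    have h2 : DerivedCategory.Q.map g = φ ≫ (i.inv ≫ DerivedCategory.Q.map s) := by
      refine Eq.trans ?_ (Category.assoc φ i.inv (DerivedCategory.Q.map s))
      refine (Eq.trans ?_ (congrArg (· ≫ DerivedCategory.Q.map s) hg.symm))
      simp
    refine (congrArg (fun t => h0 (F := D.P.obj U) t) h2).trans ((h0_comp φ _).trans ?_)
    rw [hφ, zero_comp]
  have hzπ : z ≫ L.homologyπ 0 = 0 := by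
    rw [h0_Q_map g z hz, ← Category.assoc] at h1
    exact (cancel_mono ((DerivedCategory.homologyFunctorFactors
      A 0).inv.app L)).1 (h1.trans zero_comp.symm)
  have hex : (ShortComplex.mk (L.toCycles (-1) 0) (L.homologyπ 0) (by simp)).Exact :=
    ShortComplex.exact_of_g_is_cokernel _ (L.homologyIsCokernel (-1) 0 (by simp))
  obtain ⟨A', p, hp, x₁, hx⟩ := hex.exact_up_to_refinements z hzπ
  obtain ⟨R, hR, hlift⟩ := D.exists_lift p (𝟙 (D.P.obj U))
  refine ⟨R, hR, fun V f hf => ?_⟩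
  obtain ⟨a, ha⟩ := hlift V f hf
  rw [Category.comp_id] at ha
  have hw : (D.P.map f) ≫
      (HomologicalComplex.singleObjXSelf (ComplexShape.up ℤ) 0 (D.P.obj U)).inv ≫
        g.f 0 = (a ≫ x₁) ≫ L.d (-1) 0 := by
    rw [← hz, ← ha, ← L.toCycles_i (-1) 0]
    simp only [Category.assoc]
    rw [reassoc_of% hx]
  let w := a ≫ x₁
  let g' : sgl (D.P.obj V) ⟶ L :=
    (HomologicalComplex.single _ (ComplexShape.up ℤ) 0).map (D.P.map f) ≫ g
  let h : ∀ k l : ℤ, (ComplexShape.up ℤ).Rel l k →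
      ((sgl (D.P.obj V)).X k ⟶ L.X l) := fun k l r =>
    if hk : k = 0 then
      (HomologicalComplex.singleObjXIsoOfEq (ComplexShape.up ℤ) 0 _ k hk).hom ≫ w ≫
        (L.XIsoOfEq (show (-1 : ℤ) = l by simp at r; omega)).hom
    else 0
  have e : g' = Homotopy.nullHomotopicMap' h := by
    apply HomologicalComplex.from_single_hom_ext
    rw [Homotopy.nullHomotopicMap'_f (k₂ := -1) (k₁ := 0) (k₀ := 1) (by simp) (by simp)]
    have : (sgl (D.P.obj V)).d 0 1 = 0 := HomologicalComplex.single_obj_d ..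
    rw [this, zero_comp, zero_add]
    simp only [h, g', HomologicalComplex.comp_f, HomologicalComplex.single_map_f_self,
      Category.assoc, w] at hw ⊢
    rw [dif_pos trivial, hw]
    simp [HomologicalComplex.singleObjXSelf]
  have hg' : DerivedCategory.Q.map g' = 0 := by
    exact (congrArg DerivedCategory.Q.map e).trans
      ((DerivedCategory.Q_map_eq_of_homotopy _ (Homotopy.nullHomotopy' h)).trans (Functor.map_zero _ _ _))
  refine (cancel_mono i.inv).1 ?_
  rw [zero_comp, Category.assoc]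
  refine (congrArg ((DerivedCategory.singleFunctor _ 0).map (D.P.map f) ≫ ·) hg).trans ?_
  refine ((Category.assoc _ _ _).symm.trans (congrArg (· ≫ inv (DerivedCategory.Q.map s))
    ((DerivedCategory.Q.map_comp _ _).symm.trans hg'))).trans ?_
  exact zero_comp

/-- Locally surjective. -/
lemma SecData.exists_cover_lift {U : C} {M : DerivedCategory A}
    (s : D.P.obj U ⟶ (DerivedCategory.homologyFunctor _ 0).obj M) :
    ∃ R ∈ J U, ∀ (V : C) (f : V ⟶ U), R f →
      ∃ φ : (DerivedCategory.singleFunctor _ 0).obj (D.P.obj V) ⟶ M,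
        h0 φ = D.P.map f ≫ s := by
  obtain ⟨L, ⟨i⟩⟩ : ∃ L, Nonempty (DerivedCategory.Q.obj L ≅ M) :=
    ⟨_, ⟨DerivedCategory.Q.objObjPreimageIso M⟩⟩
  let H := DerivedCategory.homologyFunctor A 0
  let ei : L.homology 0 ≅ H.obj M :=
    ((DerivedCategory.homologyFunctorFactors A 0).app L).symm ≪≫ H.mapIso i
  let q := L.homologyπ 0 ≫ ei.hom
  have : Epi q := epi_comp _ _
  obtain ⟨R, hR, hlift⟩ := D.exists_lift q s
  refine ⟨R, hR, fun V f hf => ?_⟩
  obtain ⟨a, ha⟩ := hlift V f hf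
  let g : sgl (D.P.obj V) ⟶ L :=
    HomologicalComplex.mkHomFromSingle (a ≫ L.iCycles 0) (fun k _ => by simp)
  refine ⟨DerivedCategory.Q.map g ≫ i.hom, ?_⟩
  refine ((h0_comp (F := D.P.obj V) (DerivedCategory.Q.map g) i.hom).trans
    (congrArg (· ≫ H.map i.hom) (h0_Q_map g a (by simp [g])))).trans ?_
  rw [← ha]
  simp [q, H, ei]

namespace SecData

/-- `H^m(U, K)`. -/
abbrev HU (K : DerivedCategory A) (m : ℤ) (U : C) : Type w :=
  (DerivedCategory.singleFunctor A 0).obj (D.P.obj U) ⟶ K⟦m⟧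

/-- `H^k(U, F) = 0`. -/
def Vanish (U : C) (F : A) (k : ℕ) : Prop :=
  ∀ φ : (DerivedCategory.singleFunctor A 0).obj (D.P.obj U) ⟶
    ((DerivedCategory.singleFunctor A 0).obj F)⟦(k : ℤ)⟧, φ = 0

/-- The section of `H^m(K)` attached to a class in `H^m(U, K)`. -/
noncomputable def cls (K : DerivedCategory A) (m : ℤ) (U : C) :
    D.HU K m U →+ (D.G.obj ((DerivedCategory.homologyFunctor A m).obj K)).obj.obj (op U) :=
  (D.e U _).toAddMonoidHom.comp (AddMonoidHom.mk' hm hm_add)

lemma cls_comp {K K' : DerivedCategory A} (g : K ⟶ K') (m : ℤ) (U : C) (x : D.HU K m U) :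
    D.cls K' m U (x ≫ g⟦m⟧') =
      ((D.G.map ((DerivedCategory.homologyFunctor A m).map g)).hom.app (op U)).hom (D.cls K m U x) :=
  (congrArg (D.e U _) (hm_comp x g)).trans (D.e_comp U _ _)

lemma cls_res (K : DerivedCategory A) (m : ℤ) {U V : C} (f : V ⟶ U) (x : D.HU K m U) :
    D.cls K m V ((DerivedCategory.singleFunctor A 0).map (D.P.map f) ≫ x) =
      ((D.G.obj ((DerivedCategory.homologyFunctor A m).obj K)).obj.map f.op).hom (D.cls K m U x) :=
  (congrArg (D.e V _) (hm_precomp (D.P.map f) x)).trans (D.e_map f _)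

lemma exists_cover_cls_lift (K : DerivedCategory A) (m : ℤ) (U : C)
    (s : (D.G.obj ((DerivedCategory.homologyFunctor A m).obj K)).obj.obj (op U)) :
    ∃ R ∈ J U, ∀ (V : C) (f : V ⟶ U), R f → ∃ x, D.cls K m V x =
      ((D.G.obj ((DerivedCategory.homologyFunctor A m).obj K)).obj.map f.op).hom s := by
  let ν := ((DerivedCategory.homologyFunctor A 0).shiftIso m 0 m (by simp)).app K
  obtain ⟨R, hR, h⟩ := exists_cover_lift D (M := K⟦m⟧) ((D.e U _).symm s ≫ ν.inv)
  refine ⟨R, hR, fun V f hf => ?_⟩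
  obtain ⟨φ, hφ⟩ := h V f hf
  have e1 : hm φ = D.P.map f ≫ (D.e U _).symm s :=
    (congrArg (· ≫ ν.hom) hφ).trans ((Category.assoc _ _ _).trans (congrArg (D.P.map f ≫ ·)
      ((Category.assoc _ _ _).trans ((congrArg ((D.e U _).symm s ≫ ·) ν.inv_hom_id).trans
        (Category.comp_id _)))))
  refine ⟨φ, ((congrArg (D.e V _) e1).trans (D.e_map f _)).trans ?_⟩
  rw [AddEquiv.apply_symm_apply]

lemma exists_cover_cls_eq_zero (K : DerivedCategory A) (m : ℤ) (U : C) (x : D.HU K m U)
    (hx : D.cls K m U x = 0) :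
    ∃ R ∈ J U, ∀ (V : C) (f : V ⟶ U), R f →
      (DerivedCategory.singleFunctor A 0).map (D.P.map f) ≫ x = 0 := by
  refine exists_cover_eq_zero D x ((cancel_mono
    (((DerivedCategory.homologyFunctor A 0).shiftIso m 0 m (by simp)).hom.app K)).1 ?_)
  exact ((D.e U _).injective (hx.trans (map_zero _).symm)).trans zero_comp.symm

end SecData

end Groth.Agent.DLimA
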