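import Groth.Agent.SiteBase.DLimA.Window
import Groth.Agent.SiteBase.DLim.Rlim

/-!
# Cohomology of derived limits of eventually constant systems
-/

set_option autoImplicit false

universe w u

open CategoryTheory CategoryTheory.Limits Opposite Pretriangulated DerivedCategory

namespace Groth.Agent.DLimA

lemma exists_family : ∀ (N : ℕ) (M : ℕ → Type w) (t : ∀ n, M (n + 1) → M n),
    (∀ n, N ≤ n → Function.Surjective (t n)) → ∀ x : M N,
      ∃ z : ∀ n, M n, (∀ n, t n (z (n + 1)) = z n) ∧ z N = x := by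
  intro N
  induction N with
  | zero =>
    intro M t ht x
    choose g hg using fun n => ht n (Nat.zero_le n)
    let z : ∀ n, M n := fun n => Nat.rec x (fun k zk => g k zk) n
    exact ⟨z, fun n => hg n (z n), rfl⟩
  | succ N ih =>
    intro M t ht x
    obtain ⟨z', hz', hx⟩ := ih (fun n => M (n + 1)) (fun n => t (n + 1))
      (fun n hn => ht (n + 1) (by omega)) x
    let z : ∀ n, M n
      | 0 => t 0 (z' 0)
      | n + 1 => z' n
    refine ⟨z, fun n => ?_, hx⟩
    cases n with
    | zero => rfl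
    | succ k => exact hz' k

lemma exists_limOne : ∀ (N : ℕ) (M : ℕ → Type w) [∀ n, AddCommGroup (M n)]
    (t : ∀ n, M (n + 1) →+ M n), (∀ n, N ≤ n → Function.Surjective (t n)) →
    ∀ b : ∀ n, M n, ∃ v : ∀ n, M n, ∀ n, v n - t n (v (n + 1)) = b n := by
  intro N
  induction N with
  | zero =>
    intro M _ t ht b
    choose g hg using fun n => ht n (Nat.zero_le n)
    let v : ∀ n, M n := fun n => Nat.rec 0 (fun k vk => g k (vk - b k)) n
    exact ⟨v, fun n => by
      rw [show v (n + 1) = g n (v n - b n) from rfl, hg]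
      exact sub_sub_cancel _ _⟩
  | succ N ih =>
    intro M _ t ht b
    obtain ⟨v', hv'⟩ := ih (fun n => M (n + 1)) (fun n => t (n + 1))
      (fun n hn => ht (n + 1) (by omega)) (fun n => b (n + 1))
    let v : ∀ n, M n
      | 0 => b 0 + t 0 (v' 0)
      | n + 1 => v' n
    refine ⟨v, fun n => ?_⟩
    cases n with
    | zero => exact add_sub_cancel_right _ _
    | succ k => exact hv' k

variable {C : Type u} [SmallCategory C] {J : GrothendieckTopology C}
  {A : Type (u + 1)} [Category.{u} A] [Abelian A] [HasDerivedCategory.{w} A] (D : SecData J A)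
  {K : ℕ → DerivedCategory A} {t : ∀ n, K (n + 1) ⟶ K n} [HasProduct K]
  {L : DerivedCategory A} {a : ∀ n, L ⟶ K n}

local notation "H" => DerivedCategory.homologyFunctor A

variable (t) in
/-- The transitions are eventually bijective on `H^m(U, -)`. -/
def SecData.EventBij (U : C) (m : ℤ) (N : ℕ) : Prop :=
  ∀ n, N ≤ n → Function.Bijective (fun x : D.HU (K (n + 1)) m U => x ≫ (t n)⟦m⟧')

omit [HasProduct K] in
lemma isIso_transition (j : ℤ) (n₀ : ℕ) (hj : ∀ n, n₀ ≤ n → IsIso ((H j).map (t n))) :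
    ∀ k : ℕ, IsIso ((H j).map (CohCx.transition K t n₀ k))
  | 0 => by
    show IsIso ((H j).map (𝟙 (K n₀)))
    rw [CategoryTheory.Functor.map_id]
    infer_instance
  | k + 1 => by
    have := hj (n₀ + k) (by omega)
    have := isIso_transition j n₀ hj k
    show IsIso ((H j).map (t (n₀ + k) ≫ CohCx.transition K t n₀ k))
    rw [Functor.map_comp]
    infer_instance

lemma comp_transition (hL : CohCx.IsRlimVia K t L a) (n : ℕ) :
    ∀ k : ℕ, a (n + k) ≫ CohCx.transition K t n k = a n
  | 0 => Category.comp_id _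
  | k + 1 => by
    show a (n + k + 1) ≫ t (n + k) ≫ CohCx.transition K t n k = a n
    rw [← Category.assoc, DLim.rlim_comp_t hL, comp_transition hL n k]

namespace SecData

lemma eq_zero_of_eventBij (hL : CohCx.IsRlimVia K t L a) (U : C) (j : ℤ) (N : ℕ)
    (h₁ : D.EventBij t U (j - 1) N) (h₂ : D.EventBij t U j N) (x : D.HU L j U)
    (hx : x ≫ (a N)⟦j⟧' = 0) : x = 0 := by
  have hstep : ∀ n, x ≫ (a (n + 1))⟦j⟧' ≫ (t n)⟦j⟧' = x ≫ (a n)⟦j⟧' := fun n => by
    rw [← Functor.map_comp, DLim.rlim_comp_t hL]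
  refine DLim.rlim_eq_zero hL j (fun b => ?_) x fun n => ?_
  · exact exists_limOne N (fun n => D.HU (K n) (j - 1) U)
      (fun n => Preadditive.rightComp _ ((shiftFunctor _ (j - 1)).map (t n)))
      (fun n hn => (h₁ n hn).2) b
  · have hup : ∀ k, x ≫ (a (N + k))⟦j⟧' = 0 := by
      intro k
      induction k with
      | zero => exact hx
      | succ k ih =>
        refine (h₂ (N + k) (by omega)).1 ?_
        show (x ≫ (a (N + k + 1))⟦j⟧') ≫ (t (N + k))⟦j⟧' = 0 ≫ _
        rw [zero_comp, Category.assoc, hstep, ih]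
    have hdown : ∀ k m, m + k = N → x ≫ (a m)⟦j⟧' = 0 := by
      intro k
      induction k with
      | zero => intro m hm; obtain rfl : m = N := by omega
                exact hx
      | succ k ih =>
        intro m hm
        rw [← hstep m, ← Category.assoc, ih (m + 1) (by omega), zero_comp]
    rcases le_total n N with h | h
    · exact hdown (N - n) n (by omega)
    · obtain ⟨k, rfl⟩ := Nat.exists_eq_add_of_le h
      exact hup k

/-- The cohomology of a derived limit of an eventually constant system. -/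
theorem isIso_of_eventBij (hL : CohCx.IsRlimVia K t L a) {B : Set C}
    (hB : DLim.IsCoveredBy J B) (j : ℤ) (n₀ : ℕ)
    (hj : ∀ n, n₀ ≤ n → IsIso ((H j).map (t n)))
    (h : ∀ V ∈ B, ∃ N, ∀ T ∈ J V, ∃ (ι : Type u) (Y : ι → C) (f : ∀ i, Y i ⟶ V),
      (∀ i, T.arrows (f i)) ∧ Sieve.ofArrows Y f ∈ J V ∧
      ∀ i, D.EventBij t (Y i) (j - 1) N ∧ D.EventBij t (Y i) j N) :
    ∀ n, n₀ ≤ n → IsIso ((H j).map (a n)) := by
  suffices key : IsIso (D.G.map ((H j).map (a n₀))) by
    intro n hn
    obtain ⟨k, rfl⟩ := Nat.exists_eq_add_of_le hn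
    have := isIso_transition j n₀ hj k
    have := isIso_of_reflects_iso ((H j).map (a n₀)) D.G
    have e := congrArg (H j).map (comp_transition hL n₀ k)
    rw [Functor.map_comp] at e
    exact IsIso.of_isIso_fac_right e
  let τ := fun k => (D.G.map ((H j).map (CohCx.transition K t n₀ k))).hom
  let α := fun n => (D.G.map ((H j).map (a n))).hom
  have hτ : ∀ k (V : C), Function.Bijective ((τ k).app (op V)).hom := fun k V => by
    have := isIso_transition j n₀ hj k
    exact DLim.sections_bijective_of_isIso (D.G.map _) V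
  have hfac : ∀ k (V : C) (s : (D.G.obj ((H j).obj L)).obj.obj (op V)),
      ((τ k).app (op V)).hom (((α (n₀ + k)).app (op V)).hom s) = ((α n₀).app (op V)).hom s := by
    intro k V s
    have e := congrArg (fun g => D.G.map ((H j).map g)) (comp_transition hL n₀ k)
    simp only [Functor.map_comp] at e
    exact congrArg (fun g => (g.hom.app (op V)).hom s) e
  refine (Sheaf.isLocallyBijective_iff_isIso (D.G.map ((H j).map (a n₀)))).1 ⟨?_, ?_⟩
  · constructor
    intro X s s' hss
    obtain ⟨ι₀, Y₀, f₀, hf₀, hY₀⟩ := hB X.unop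
    refine J.superset_covering ?_ hf₀
    rintro Z q ⟨Z', b, c, ⟨i₀⟩, rfl⟩
    refine (Presheaf.equalizerSieve s s').downward_closed ?_ b
    let V := Y₀ i₀
    obtain ⟨N₀, hN₀⟩ := h V (hY₀ i₀)
    show ((D.G.obj ((H j).obj L)).obj.map (f₀ i₀).op).hom s =
      ((D.G.obj ((H j).obj L)).obj.map (f₀ i₀).op).hom s'
    rw [← sub_eq_zero, ← map_sub]
    have hz : ((α n₀).app (op V)).hom (((D.G.obj ((H j).obj L)).obj.map (f₀ i₀).op).hom (s - s')) = 0 := by
      refine (ConcreteCategory.congr_hom ((α n₀).naturality (f₀ i₀).op) (s - s')).trans ?_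
      have h0 : ((α n₀).app X).hom (s - s') = 0 := (map_sub _ _ _).trans (sub_eq_zero.2 hss)
      exact (congrArg (fun v => ((D.G.obj ((H j).obj (K n₀))).obj.map (f₀ i₀).op).hom v) h0).trans (map_zero _)
    generalize ((D.G.obj ((H j).obj L)).obj.map (f₀ i₀).op).hom (s - s') = s at hz ⊢
    let k := N₀
    have hk : ((α (n₀ + k)).app (op V)).hom s = 0 :=
      (hτ k V).1 ((hfac k V s).trans (hz.trans (map_zero _).symm))
    obtain ⟨R, hR, hlift⟩ := D.exists_cover_cls_lift L j V s
    choose x hx using hlift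
    have hloc : ∀ (W : C) (g : W ⟶ V) (hg : R g), ∃ R' ∈ J W, ∀ (Z : C) (r : Z ⟶ W), R' r →
        (DerivedCategory.singleFunctor A 0).map (D.P.map r) ≫ x W g hg ≫ (a (n₀ + k))⟦j⟧' = 0 :=
      fun W g hg => by
        refine D.exists_cover_cls_eq_zero (K (n₀ + k)) j W _ ((D.cls_comp _ j W _).trans ?_)
        refine (congrArg _ (hx W g hg)).trans ?_
        exact (ConcreteCategory.congr_hom ((α (n₀ + k)).naturality g.op) s).trans
          ((congrArg (fun v => ((D.G.obj ((H j).obj (K (n₀ + k)))).obj.map g.op).hom v) hk).trans (map_zero _))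
    choose R' hR' hzero using hloc
    obtain ⟨ι, Yf, f, hT, hcov, hprop⟩ := hN₀ (Sieve.bind R.arrows fun W g hg => R' W g hg)
      (J.bind_covering hR fun W g hg => hR' W g hg)
    refine DLim.sections_separated _ hcov s 0 ?_
    rintro Z' p ⟨Z'', d, d', ⟨i⟩, rfl⟩
    obtain ⟨W, g, q', hq', hg, e⟩ := hT i
    have hy : (DerivedCategory.singleFunctor A 0).map (D.P.map g) ≫ x W q' hq' = 0 :=
      D.eq_zero_of_eventBij hL (Yf i) j (n₀ + k) (fun n hn => (hprop i).1 n (by omega))
        (fun n hn => (hprop i).2 n (by omega)) _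
        ((Category.assoc _ _ _).trans (hzero W q' hq' _ g hg))
    have hfi : ((D.G.obj ((H j).obj L)).obj.map (f i).op).hom s = 0 := by
      rw [← e, op_comp, Functor.map_comp]
      show ((D.G.obj ((H j).obj L)).obj.map g.op).hom
        (((D.G.obj ((H j).obj L)).obj.map q'.op).hom s) = 0
      rw [← hx W q' hq', ← D.cls_res, hy, map_zero]
    rw [op_comp, Functor.map_comp]
    show ((D.G.obj ((H j).obj L)).obj.map d.op).hom
      (((D.G.obj ((H j).obj L)).obj.map (f i).op).hom s) = _
    rw [hfi, map_zero, map_zero]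
  · constructor
    intro U s
    obtain ⟨ι₀, Y₀, f₀, hf₀, hY₀⟩ := hB U
    refine J.transitive hf₀ _ ?_
    rintro Z q ⟨Z', b, c, ⟨i₀⟩, rfl⟩
    rw [Sieve.pullback_comp]
    refine J.pullback_stable b ?_
    let V := Y₀ i₀
    obtain ⟨N₀, hN₀⟩ := h V (hY₀ i₀)
    obtain ⟨σ, hσ⟩ := (hτ N₀ V).2 (((D.G.obj ((H j).obj (K n₀))).obj.map (f₀ i₀).op).hom s)
    obtain ⟨R, hR, hlift⟩ := D.exists_cover_cls_lift (K (n₀ + N₀)) j V σ
    obtain ⟨ι, Yf, f, hT, hcov, hprop⟩ := hN₀ R hR
    refine J.superset_covering ?_ hcov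
    rintro Z' p ⟨Z'', d, d', ⟨i⟩, rfl⟩
    refine Sieve.downward_closed _ ?_ d
    obtain ⟨x, hx⟩ := hlift (Yf i) (f i) (hT i)
    obtain ⟨z, hzt, hzN⟩ := exists_family (n₀ + N₀) (fun n => D.HU (K n) j (Yf i))
      (fun n v => v ≫ (t n)⟦j⟧') (fun n hn => ((hprop i).2 n (by omega)).2) x
    obtain ⟨y, hy⟩ := DLim.rlim_exists_lift hL j z hzt
    refine ⟨D.cls L j (Yf i) y, ?_⟩
    refine ((hfac N₀ (Yf i) _).symm.trans (congrArg _ ?_)).trans
      ((ConcreteCategory.congr_hom ((τ N₀).naturality (f i).op) σ).trans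
        ((congrArg _ hσ).trans ?_))
    · refine Eq.trans ?_ hx
      rw [← hzN, ← hy]
      exact (D.cls_comp _ j (Yf i) y).symm
    · rw [op_comp, Functor.map_comp]
      rfl

end SecData

end Groth.Agent.DLimA
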