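import Mathlib.Algebra.Homology.DerivedCategory.Fractions
import Mathlib.Algebra.Homology.SingleHomology
import Mathlib.CategoryTheory.Abelian.Refinements
import Mathlib.Algebra.Homology.DerivedCategory.HomologySequence

/-!
# Morphisms out of an object placed in degree zero
-/

set_option autoImplicit false

universe w v u'

open CategoryTheory CategoryTheory.Limits

namespace Groth.Agent.DLimA

variable {A : Type u'} [Category.{v} A] [Abelian A]

/-- The single complex in degree zero. -/
noncomputable abbrev sgl (F : A) :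
    CochainComplex A ℤ :=
  (HomologicalComplex.single _ (ComplexShape.up ℤ) 0).obj F

lemma selfIso_inv_homologyMap {F : A}
    {L : CochainComplex A ℤ} (g : sgl F ⟶ L)
    (z : F ⟶ L.cycles 0)
    (hz : z ≫ L.iCycles 0 =
      (HomologicalComplex.singleObjXSelf (ComplexShape.up ℤ) 0 F).inv ≫ g.f 0) :
    (HomologicalComplex.singleObjHomologySelfIso (ComplexShape.up ℤ) 0 F).inv ≫
      HomologicalComplex.homologyMap g 0 = z ≫ L.homologyπ 0 := by
  rw [← HomologicalComplex.singleObjCyclesSelfIso_inv_homologyπ, Category.assoc,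
    HomologicalComplex.homologyπ_naturality, ← Category.assoc]
  congr 1
  rw [← cancel_mono (L.iCycles 0), Category.assoc, HomologicalComplex.cyclesMap_i,
    HomologicalComplex.singleObjCyclesSelfIso_inv_iCycles_assoc, hz]

lemma exists_cycle {F : A}
    {L : CochainComplex A ℤ} (g : sgl F ⟶ L) :
    ∃ z : F ⟶ L.cycles 0, z ≫ L.iCycles 0 =
      (HomologicalComplex.singleObjXSelf (ComplexShape.up ℤ) 0 F).inv ≫ g.f 0 := by
  refine ⟨L.liftCycles _ 1 (by simp) ?_, L.liftCycles_i _ 1 (by simp) _⟩
  rw [Category.assoc, g.comm]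
  simp

variable [HasDerivedCategory.{w} A]

/-- `F ≅ H^0(F[0])`. -/
noncomputable def unitIso : 𝟭 A ≅
    DerivedCategory.singleFunctor A 0 ⋙
      DerivedCategory.homologyFunctor A 0 :=
  (HomologicalComplex.homologyFunctorSingleIso _ (ComplexShape.up ℤ) 0).symm ≪≫
    Functor.isoWhiskerLeft (HomologicalComplex.single _ (ComplexShape.up ℤ) 0)
      (DerivedCategory.homologyFunctorFactors A 0).symm

lemma unitIso_hom_app (F : A) :
    unitIso.hom.app F =
      (HomologicalComplex.singleObjHomologySelfIso (ComplexShape.up ℤ) 0 F).inv ≫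
        (DerivedCategory.homologyFunctorFactors A 0).inv.app (sgl F) :=
  rfl

/-- The morphism of `F` to `H^0(M)` attached to a morphism `F[0] ⟶ M`. -/
noncomputable def h0 {F : A}
    {M : DerivedCategory A}
    (φ : (DerivedCategory.singleFunctor A 0).obj F ⟶ M) :
    F ⟶ (DerivedCategory.homologyFunctor A 0).obj M :=
  unitIso.hom.app F ≫ (DerivedCategory.homologyFunctor A 0).map φ

lemma h0_add {F : A} {M : DerivedCategory A}
    (φ ψ : (DerivedCategory.singleFunctor A 0).obj F ⟶ M) :
    h0 (φ + ψ) = h0 φ + h0 ψ := by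
  simp [h0]

lemma h0_comp {F : A} {M N : DerivedCategory A}
    (φ : (DerivedCategory.singleFunctor A 0).obj F ⟶ M) (g : M ⟶ N) :
    h0 (φ ≫ g) = h0 φ ≫ (DerivedCategory.homologyFunctor A 0).map g := by
  simp [h0]

lemma h0_precomp {F G : A}
    {M : DerivedCategory A} (a : G ⟶ F)
    (φ : (DerivedCategory.singleFunctor A 0).obj F ⟶ M) :
    h0 ((DerivedCategory.singleFunctor A 0).map a ≫ φ) = a ≫ h0 φ := by
  have h := unitIso.hom.naturality (F := 𝟭 A) a
  simp only [Functor.id_map, Functor.comp_map] at h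
  simp only [h0, Functor.map_comp]
  exact ((Category.assoc _ _ _).symm.trans
    (congrArg (· ≫ _) h.symm)).trans (Category.assoc _ _ _)

lemma h0_Q_map {F : A}
    {L : CochainComplex A ℤ} (g : sgl F ⟶ L)
    (z : F ⟶ L.cycles 0)
    (hz : z ≫ L.iCycles 0 =
      (HomologicalComplex.singleObjXSelf (ComplexShape.up ℤ) 0 F).inv ≫ g.f 0) :
    h0 (F := F) (DerivedCategory.Q.map g) = z ≫ L.homologyπ 0 ≫
      (DerivedCategory.homologyFunctorFactors A 0).inv.app L := by
  rw [← Category.assoc, ← selfIso_inv_homologyMap g z hz, Category.assoc]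
  refine (congrArg (· ≫ _) (unitIso_hom_app F)).trans ?_
  exact (Category.assoc _ _ _).trans (congrArg (_ ≫ ·)
    ((DerivedCategory.homologyFunctorFactors A 0).inv.naturality g).symm)

/-- The morphism of `F` to `H^m(K)` attached to a morphism `F[0] ⟶ K⟦m⟧`. -/
noncomputable def hm {F : A} {K : DerivedCategory A} {m : ℤ}
    (φ : (DerivedCategory.singleFunctor A 0).obj F ⟶ K⟦m⟧) :
    F ⟶ (DerivedCategory.homologyFunctor A m).obj K :=
  h0 φ ≫ ((DerivedCategory.homologyFunctor A 0).shiftIso m 0 m (by simp)).hom.app K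

lemma hm_add {F : A} {K : DerivedCategory A} {m : ℤ}
    (φ ψ : (DerivedCategory.singleFunctor A 0).obj F ⟶ K⟦m⟧) :
    hm (φ + ψ) = hm φ + hm ψ := by
  simp [hm, h0_add]

lemma hm_precomp {F G : A} {K : DerivedCategory A} {m : ℤ} (a : G ⟶ F)
    (φ : (DerivedCategory.singleFunctor A 0).obj F ⟶ K⟦m⟧) :
    hm ((DerivedCategory.singleFunctor A 0).map a ≫ φ) = a ≫ hm φ := by
  rw [hm, hm, h0_precomp, Category.assoc]

lemma hm_comp {F : A} {K K' : DerivedCategory A} {m : ℤ}
    (φ : (DerivedCategory.singleFunctor A 0).obj F ⟶ K⟦m⟧) (g : K ⟶ K') :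
    hm (φ ≫ g⟦m⟧') = hm φ ≫ (DerivedCategory.homologyFunctor A m).map g := by
  rw [hm, hm, h0_comp, Category.assoc, Category.assoc]
  exact congrArg (h0 φ ≫ ·)
    (((DerivedCategory.homologyFunctor A 0).shiftIso m 0 m (by simp)).hom.naturality g)

end Groth.Agent.DLimA
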