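import Groth.Agent.SiteBase.DLimA.Trunc
import Groth.Agent.SiteBase.RpushD.Single
import Groth.Agent.SiteBase.RpushD.Transfer
import Groth.Agent.TriCat.DerivedProducts

/-!
# Derived functors and truncation towers
-/

set_option autoImplicit false

universe u

open CategoryTheory CategoryTheory.Limits Pretriangulated DerivedCategory

attribute [local instance] HasDerivedCategory.standard

namespace Groth.Agent.DLimA

open Groth.Agent.SiteBase

variable {C : Type u} [SmallCategory C] {J : GrothendieckTopology C}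
  {A : Type (u + 1)} [Category.{u} A] [Abelian A] [IsGrothendieckAbelian.{u} A]
  {D : Type u} [SmallCategory D] {K : GrothendieckTopology D}
  {B : Type (u + 1)} [Category.{u} B] [Abelian B] [IsGrothendieckAbelian.{u} B]

local notation "tS" => (DerivedCategory.TStructure.t)

lemma hasProduct_nat (E : ℕ → DerivedCategory A) : HasProduct E := by
  have : HasLimitsOfShape (Discrete ℕ) A := inferInstance
  have : HasLimitsOfShape (Discrete ℕ) (DerivedCategory A) :=
    TriCat.hasProductsOfShape_derivedCategory fun M => by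
      obtain ⟨I, f, hI, hf, -, -⟩ := TriCat.exists_kInjective_resolution' M
      exact ⟨I, f, hI, hf⟩
  infer_instance

omit [IsGrothendieckAbelian.{u} A] in
/-- The fibre of a step of the truncation tower. -/
lemma exists_truncStep (E : DerivedCategory A) (n : ℕ) :
    ∃ (M : A) (f : (singleFunctor A (-((n + 1 : ℕ) : ℤ))).obj M ⟶ CohCx.truncTower E (n + 1))
      (h : CohCx.truncTower E n ⟶ ((singleFunctor A (-((n + 1 : ℕ) : ℤ))).obj M)⟦(1 : ℤ)⟧),
      Triangle.mk f (CohCx.truncTowerMap E n) h ∈ distinguishedTriangles ∧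
      Nonempty (M ≅ (DerivedCategory.homologyFunctor A (-((n + 1 : ℕ) : ℤ))).obj E) := by
  let a : ℤ := -((n + 1 : ℕ) : ℤ)
  let b : ℤ := -(n : ℤ)
  let g := CohCx.truncTowerMap E n
  obtain ⟨F, f, h, hT⟩ := distinguished_cocone_triangle₁ g
  have hX : (CohCx.truncTower E (n + 1)).IsGE a := (tS).isGE_truncGE_obj ..
  have hX' : (CohCx.truncTower E n).IsGE b := (tS).isGE_truncGE_obj ..
  have : (CohCx.truncTower E n).IsGE a := (tS).isGE_of_ge _ a b (by omega)
  have hiso : ∀ i, b ≤ i → IsIso ((DerivedCategory.homologyFunctor A i).map g) := fun i hi => by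
    have e := congrArg (DerivedCategory.homologyFunctor A i).map (toTruncTower_comp E n)
    rw [Functor.map_comp] at e
    have := isIso_toTruncTower E (n + 1) i (by omega)
    have := isIso_toTruncTower E n i (by omega)
    exact IsIso.of_isIso_fac_left e
  have hz : ∀ i, i < b → IsZero ((DerivedCategory.homologyFunctor A i).obj (CohCx.truncTower E n)) :=
    fun i hi => isZero_of_isGE _ b i hi
  have hepi : ∀ i, Epi ((DerivedCategory.homologyFunctor A i).map g) := fun i => by
    by_cases h' : b ≤ i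
    · have := hiso i h'; infer_instance
    · exact ⟨fun u v _ => (hz i (by omega)).eq_of_src u v⟩
  have hG : F.IsGE a := isGE_fibre hT a
  have hL : F.IsLE a := (isLE_iff _ _).2 fun i hi => isZero_fibre hT i (hepi _)
    (by have := hiso i (by omega); infer_instance)
  obtain ⟨M, ⟨e⟩⟩ := exists_iso_singleFunctor_obj_of_isGE_of_isLE F a
  have hm : Mono ((DerivedCategory.homologyFunctor A a).map f) :=
    (HomologySequence.mono_homologyMap_mor₁_iff _ hT (a - 1) a).2
      ((hz (a - 1) (by omega)).eq_of_src _ _)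
  have he : Epi ((DerivedCategory.homologyFunctor A a).map f) :=
    (HomologySequence.epi_homologyMap_mor₁_iff _ hT a).2 ((hz a (by omega)).eq_of_tgt _ _)
  have : IsIso ((DerivedCategory.homologyFunctor A a).map f) := @isIso_of_mono_of_epi _ _ _ _ _ _ hm he
  have := isIso_toTruncTower E (n + 1) a (by omega)
  refine ⟨M, e.inv ≫ f, h ≫ (shiftFunctor _ (1 : ℤ)).map e.hom,
    isomorphic_distinguished _ hT _ (Triangle.isoMk _ _ e.symm (Iso.refl _) (Iso.refl _) ?_ ?_ ?_),
    ⟨((singleFunctorCompHomologyFunctorIso A a).app M).symm ≪≫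
      (DerivedCategory.homologyFunctor A a).mapIso e.symm ≪≫
      asIso ((DerivedCategory.homologyFunctor A a).map f) ≪≫
      (asIso ((DerivedCategory.homologyFunctor A a).map (CohCx.toTruncTower E (n + 1)))).symm⟩⟩
  · exact Category.comp_id _
  · exact (Category.comp_id _).trans (Category.id_comp _).symm
  · refine (Category.assoc _ _ _).trans (Eq.trans ?_ (Category.id_comp h).symm)
    exact (congrArg (h ≫ ·) ((Functor.map_comp _ _ _).symm.trans
      ((congrArg _ e.hom_inv_id).trans (CategoryTheory.Functor.map_id _ _)))).trans (Category.comp_id h)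

variable (G : A ⥤ B) [G.Additive]
  [(G.mapHomotopyCategory (ComplexShape.up ℤ) ⋙ DerivedCategory.Qh).HasRightDerivedFunctor
    (HomotopyCategory.quasiIso A (ComplexShape.up ℤ))]

local notation "R" => RpushD.RD G
local notation "HA" => DerivedCategory.homologyFunctor A
local notation "HB" => DerivedCategory.homologyFunctor B

omit [IsGrothendieckAbelian.{u} B] in
lemma nonempty_homology_RD_singleFunctor (M : A) (a i : ℤ) :
    Nonempty ((HB i).obj ((R).obj ((singleFunctor A a).obj M)) ≅
      (HB (i - a)).obj ((R).obj ((singleFunctor A 0).obj M))) := by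
  obtain ⟨e⟩ := RpushD.nonempty_RD_shift G ((singleFunctor A 0).obj M) (-a)
  exact ⟨(HB i).mapIso ((R).mapIso (((singleFunctors A).shiftIso (-a) a 0 (by omega)).app M).symm ≪≫ e) ≪≫
    ((HB 0).shiftIso (-a) i (i - a) (by omega)).app _⟩

omit [IsGrothendieckAbelian.{u} B] in
lemma isIso_RD_step (E : DerivedCategory A) (n : ℕ) (j N : ℤ) (hj : N - n ≤ j)
    (h : ∀ i : ℤ, N < i → IsZero ((HB i).obj ((R).obj ((singleFunctor A 0).obj
      ((HA (-((n + 1 : ℕ) : ℤ))).obj E))))) :
    IsIso ((HB j).map ((R).map (CohCx.truncTowerMap E n))) := by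
  obtain ⟨M, f, δ, hT, ⟨e⟩⟩ := exists_truncStep E n
  obtain ⟨c, hc⟩ := RpushD.exists_triangle G _ hT
  have hz : ∀ i, j ≤ i → IsZero ((HB i).obj ((R).obj ((singleFunctor A (-((n + 1 : ℕ) : ℤ))).obj M))) :=
    fun i hi => by
      obtain ⟨e'⟩ := nonempty_homology_RD_singleFunctor G M (-((n + 1 : ℕ) : ℤ)) i
      exact (h _ (by omega)).of_iso (e' ≪≫ (HB _).mapIso ((R).mapIso ((singleFunctor A 0).mapIso e)))
  have hm : Mono ((HB j).map ((R).map (CohCx.truncTowerMap E n))) :=
    (HomologySequence.mono_homologyMap_mor₂_iff _ hc j).2 ((hz j le_rfl).eq_of_src _ _)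
  have he : Epi ((HB j).map ((R).map (CohCx.truncTowerMap E n))) :=
    (HomologySequence.epi_homologyMap_mor₂_iff _ hc j (j + 1) rfl).2
      ((hz (j + 1) (by omega)).eq_of_tgt _ _)
  exact @isIso_of_mono_of_epi _ _ _ _ _ _ hm he

variable {G}

omit [IsGrothendieckAbelian.{u} B] in
/-- Derived functors of bounded below objects with cohomology in a class. -/
lemma cohIn_RD {PB : ObjectProperty B} [WSerre.IsWeakSerre PB] (Y : DerivedCategory A) (a : ℤ)
    [Y.IsGE a]
    (h : ∀ q i : ℤ, PB ((HB i).obj ((R).obj ((singleFunctor A 0).obj ((HA q).obj Y))))) :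
    WSerre.cohIn PB ((R).obj Y) := by
  let P : ObjectProperty (DerivedCategory A) := fun Z => WSerre.cohIn PB ((R).obj Z)
  have : P.IsClosedUnderIsomorphisms := ⟨fun e he => RpushD.cohIn_of_iso ((R).mapIso e) he⟩
  have hP : ∀ T ∈ distTriang (DerivedCategory A), P T.obj₁ → P T.obj₃ → P T.obj₂ := fun T hT h₁ h₃ => by
    obtain ⟨c, hc⟩ := RpushD.exists_triangle G T hT
    exact RpushD.cohIn_obj₂ _ hc h₁ h₃
  intro i
  let m := i + 2
  let T := ((tS).triangleLTGE m).obj Y
  have hT := (tS).triangleLTGE_distinguished m Y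
  obtain ⟨c, hc⟩ := RpushD.exists_triangle G T hT
  have : T.obj₁.IsGE a := RpushD.isGE_truncLT Y a m
  have : T.obj₁.IsLE (m - 1) := (tS).isLE_truncLT_obj ..
  have : T.obj₁.IsLE (a + (m - 1 - a).toNat) := (tS).isLE_of_le T.obj₁ (m - 1) _ (by omega)
  have h₁ : P T.obj₁ := RpushD.prop_of_bounded P hP (m - 1 - a).toNat T.obj₁ a fun q _ _ k => by
    obtain ⟨e'⟩ := nonempty_homology_RD_singleFunctor G ((HA q).obj T.obj₁) q k
    refine PB.prop_of_iso e'.symm ?_
    by_cases hq : q < m
    · have := H9Misc.isIso_map_truncLTι m q hq Y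
      exact PB.prop_of_iso ((HB _).mapIso ((R).mapIso ((singleFunctor A 0).mapIso
        (asIso ((HA q).map (((tS).truncLTι m).app Y))).symm))) (h q _)
    · have hz : IsZero ((singleFunctor A 0).obj ((HA q).obj T.obj₁)) :=
        (singleFunctor A 0).map_isZero (isZero_of_isLE T.obj₁ (m - 1) q (by omega))
      exact PB.prop_of_isZero (by
        have : ((singleFunctor A 0).obj ((HA q).obj T.obj₁)).IsGE (k - q + 1) :=
          (isGE_iff _ _).2 fun s _ => (HA s).map_isZero hz
        have := RpushD.isGE_RD G ((singleFunctor A 0).obj ((HA q).obj T.obj₁)) (k - q + 1)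
        exact isZero_of_isGE _ (k - q + 1) _ (by omega))
  have : T.obj₃.IsGE m := (tS).isGE_truncGE_obj ..
  have := RpushD.isGE_RD G T.obj₃ m
  have hm : Mono ((HB i).map ((R).map T.mor₁)) :=
    (HomologySequence.mono_homologyMap_mor₁_iff _ hc (i - 1) i).2
      ((isZero_of_isGE ((R).obj T.obj₃) m (i - 1) (by omega)).eq_of_src _ _)
  have he : Epi ((HB i).map ((R).map T.mor₁)) :=
    (HomologySequence.epi_homologyMap_mor₁_iff _ hc i).2
      ((isZero_of_isGE ((R).obj T.obj₃) m i (by omega)).eq_of_tgt _ _)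
  exact PB.prop_of_iso (@asIso _ _ _ _ _ (@isIso_of_mono_of_epi _ _ _ _ _ _ hm he)) (h₁ i)

variable (DA : SecData J A) (DB : SecData K B) {PA : ObjectProperty A} {PB : ObjectProperty B}

variable (G) in
/-- The derived transitions are eventually bijective on classes, locally on `B'`. -/
def EventBijOn (E : DerivedCategory A) (B' : Set D) : Prop :=
  ∀ V ∈ B', ∀ m : ℤ, ∃ N : ℕ, ∀ T ∈ K V, ∃ (ι : Type u) (Y : ι → D) (f : ∀ i, Y i ⟶ V),
    (∀ i, T.arrows (f i)) ∧ Sieve.ofArrows Y f ∈ K V ∧
    ∀ i, DB.EventBij (K := fun n => (R).obj (CohCx.truncTower E n))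
        (fun n => (R).map (CohCx.truncTowerMap E n)) (Y i) (m - 1) N ∧
      DB.EventBij (K := fun n => (R).obj (CohCx.truncTower E n))
        (fun n => (R).map (CohCx.truncTowerMap E n)) (Y i) m N

/-- The derived functor on an unbounded object agrees with that on a truncation in a range. -/
theorem isIso_RD_trunc [(R).IsRightAdjoint] {BA : Set C} (hBA : DLim.IsCoveredBy J BA)
    (hA : DA.LocBound PA BA) {B' : Set D} (hB' : DLim.IsCoveredBy K B') (N : ℤ)
    (h3 : ∀ M : A, PA M → ∀ i : ℤ, N < i → IsZero ((HB i).obj ((R).obj ((singleFunctor A 0).obj M))))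
    (X : DerivedCategory A) (hX : WSerre.cohIn PA X) (hev : EventBijOn G DB X B') (n : ℕ) (j : ℤ)
    (hj : N - n ≤ j) : IsIso ((HB j).map ((R).map (CohCx.toTruncTower X n))) := by
  have := hasProduct_nat (CohCx.truncTower X)
  have := hasProduct_nat fun n => (R).obj (CohCx.truncTower X n)
  have hL := RpushD.isRlimVia G _ _ _ _ (DA.isRlimVia_trunc_of_cohIn X hBA hA hX)
  refine DB.isIso_of_eventBij hL hB' j n (fun k hk => isIso_RD_step G X k j N (by omega)
    fun i hi => h3 _ (hX _) i hi) (fun V hV => hev V hV j) n le_rfl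

end Groth.Agent.DLimA
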