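import Groth.Agent.SiteBase.DLimA.Rlim
import Groth.Agent.SiteBase.RpushD.FullFaith
import Mathlib.Order.Interval.Finset.Basic
import Mathlib.Data.Int.Interval

/-!
# Derived limits of truncations
-/

set_option autoImplicit false

universe w u

open CategoryTheory CategoryTheory.Limits Opposite Pretriangulated DerivedCategory

namespace Groth.Agent.DLimA

variable {C : Type u} [SmallCategory C] {J : GrothendieckTopology C}
  {A : Type (u + 1)} [Category.{u} A] [Abelian A] [HasDerivedCategory.{w} A] (D : SecData J A)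

local notation "tS" => (DerivedCategory.TStructure.t (C := A))
local notation "H" => DerivedCategory.homologyFunctor A

section Truncations

variable (E : DerivedCategory A)

lemma isIso_toTruncTower (n : ℕ) (i : ℤ) (hi : -(n : ℤ) ≤ i) :
    IsIso ((H i).map (CohCx.toTruncTower E n)) :=
  H9Misc.isIso_map_truncGEπ (-(n : ℤ)) i hi E

lemma toTruncTower_comp (n : ℕ) :
    CohCx.toTruncTower E (n + 1) ≫ CohCx.truncTowerMap E n = CohCx.toTruncTower E n :=
  (tS).π_natTransTruncGEOfLE_app _ _ (by omega) E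

/-- The comparison of `E` with the derived limit of its truncations. -/
lemma exists_trunc_comparison [HasProduct (CohCx.truncTower E)] :
    ∃ (L : DerivedCategory A) (a : ∀ n, L ⟶ CohCx.truncTower E n)
      (e : E ⟶ L),
      CohCx.IsRlimVia (CohCx.truncTower E) (CohCx.truncTowerMap E) L a ∧
      (∀ n, e ≫ a n = CohCx.toTruncTower E n) ∧
      ((∀ m : ℤ, IsIso ((H m).map e)) →
        CohCx.IsRlimVia (CohCx.truncTower E) (CohCx.truncTowerMap E) E (CohCx.toTruncTower E)) := by
  let K := CohCx.truncTower E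
  let t := CohCx.truncTowerMap E
  let d : ∏ᶜ K ⟶ ∏ᶜ K := Pi.lift fun n => Pi.π K n - Pi.π K (n + 1) ≫ t n
  obtain ⟨L, p, δ, hT⟩ := distinguished_cocone_triangle₁ d
  let a : ∀ n, L ⟶ K n := fun n => p ≫ Pi.π K n
  have hp : Pi.lift a = p := Pi.hom_ext _ _ fun n => Pi.lift_π _ _
  obtain ⟨e, he⟩ : ∃ e : E ⟶ L, Pi.lift (CohCx.toTruncTower E) = e ≫ p :=
    Triangle.coyoneda_exact₂ _ hT (Pi.lift (CohCx.toTruncTower E)) (Pi.hom_ext _ _ fun n => by
      show (Pi.lift (CohCx.toTruncTower E) ≫ d) ≫ Pi.π K n = 0 ≫ Pi.π K n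
      have := toTruncTower_comp E n
      simp only [d, Category.assoc, Pi.lift_π, Preadditive.comp_sub, zero_comp]
      erw [Pi.lift_π, Pi.lift_π_assoc]
      rw [sub_eq_zero]
      exact this.symm)
  refine ⟨L, a, e, ⟨δ, by rw [hp]; exact hT⟩,
    fun n => by rw [← Category.assoc, ← he, Pi.lift_π], fun hiso => ?_⟩
  have : IsIso e := (DerivedCategory.isIso_iff _ e).2 hiso
  let eI : E ≅ L := asIso e
  refine ⟨δ ≫ eI.inv⟦(1 : ℤ)⟧', isomorphic_distinguished _ hT _
    (Triangle.isoMk _ _ eI (Iso.refl _) (Iso.refl _) ?_ ?_ ?_)⟩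
  · exact (Category.comp_id _).trans he
  · exact (Category.comp_id _).trans (Category.id_comp _).symm
  · refine (Category.assoc _ _ _).trans (Eq.trans ?_ (Category.id_comp δ).symm)
    refine (congrArg (δ ≫ ·) ?_).trans (Category.comp_id δ)
    exact (Functor.map_comp _ _ _).symm.trans
      ((congrArg _ eI.inv_hom_id).trans (CategoryTheory.Functor.map_id _ _))

end Truncations

namespace SecData

/-- Vanishing of the higher cohomology of a class of objects, locally on `B`. -/
def LocBound (PA : ObjectProperty A) (B : Set C) : Prop :=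
  ∀ V ∈ B, ∃ d : ℕ, ∀ T ∈ J V, ∃ (ι : Type u) (Y : ι → C) (f : ∀ i, Y i ⟶ V),
    (∀ i, T.arrows (f i)) ∧ Sieve.ofArrows Y f ∈ J V ∧
    ∀ (i : ι) (F : A), PA F → ∀ k : ℕ, d < k → D.Vanish (Y i) F k

variable {PA : ObjectProperty A}

/-- A morphism invertible on cohomology in a window is bijective on hypercohomology. -/
lemma bijective_of_cohIn [WSerre.IsWeakSerre PA] {K' K : DerivedCategory A} (g : K' ⟶ K) (a : ℤ)
    [K'.IsGE a] [K.IsGE a] (hc' : WSerre.cohIn PA K') (hc : WSerre.cohIn PA K) (U : C) (d : ℕ)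
    (hU : ∀ F, PA F → ∀ k : ℕ, d < k → D.Vanish U F k) (m : ℤ)
    (hg : ∀ q : ℤ, m - d - 1 ≤ q → q ≤ m + 1 → IsIso ((H q).map g)) :
    Function.Bijective (fun x : D.HU K' m U => x ≫ g⟦m⟧') := by
  obtain ⟨F, f, δ, hT⟩ := distinguished_cocone_triangle₁ g
  have hF : F.IsGE a := isGE_fibre hT a
  have hFc : WSerre.cohIn PA F :=
    Groth.Agent.SiteBase.RpushD.cohIn_obj₂ _ (inv_rot_of_distTriang _ hT)
      (Groth.Agent.SiteBase.RpushD.cohIn_shift hc (-1)) hc'
  have hv : ∀ m', m ≤ m' → m' ≤ m + 1 → ∀ φ : D.HU F m' U, φ = 0 := fun m' hm hm' φ => by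
    refine D.eq_zero_of_window F a U m' (fun q k hk => ?_) φ
    by_cases h : d < k
    · exact hU _ (hFc q) k h
    · refine D.vanish_of_isZero (isZero_fibre hT q ?_ ?_)
      · have := hg (q - 1) (by omega) (by omega); infer_instance
      · have := hg q (by omega) (by omega); infer_instance
  exact D.bijective_of_fibre hT U m (hv m le_rfl (by omega)) (hv (m + 1) (by omega) le_rfl)

/-- A truncation step is bijective on hypercohomology where its kernel is acyclic. -/
lemma bijective_trunc_step (E : DerivedCategory A) (a b : ℤ) (hb : a + 1 = b) (U : C) (m : ℤ)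
    (h : ∀ k : ℕ, a + k = m ∨ a + k = m + 1 → D.Vanish U ((H a).obj E) k) :
    Function.Bijective (fun x : D.HU (((tS).truncGE a).obj E) m U =>
      x ≫ (((tS).natTransTruncGEOfLE a b (by omega)).app E)⟦m⟧') := by
  let g := ((tS).natTransTruncGEOfLE a b (by omega)).app E
  obtain ⟨F, f, δ, hT⟩ := distinguished_cocone_triangle₁ g
  have hX : (((tS).truncGE a).obj E).IsGE a := (tS).isGE_truncGE_obj ..
  have hX' : (((tS).truncGE b).obj E).IsGE b := (tS).isGE_truncGE_obj ..
  have : (((tS).truncGE b).obj E).IsGE a := (tS).isGE_of_ge _ a b (by omega)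
  have hF : F.IsGE a := isGE_fibre hT a
  have hiso : ∀ i, b ≤ i → IsIso ((H i).map g) := fun i hi => by
    have e := congrArg (H i).map ((tS).π_natTransTruncGEOfLE_app a b (by omega) E)
    rw [Functor.map_comp] at e
    have := H9Misc.isIso_map_truncGEπ a i (by omega) E
    have := H9Misc.isIso_map_truncGEπ b i hi E
    exact IsIso.of_isIso_fac_left e
  have hepi : ∀ i, Epi ((H i).map g) := fun i => by
    by_cases h' : b ≤ i
    · have := hiso i h'; infer_instance
    · exact ⟨fun u v _ => (isZero_of_isGE _ b i (by omega)).eq_of_src u v⟩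
  have hv : ∀ m', (m' = m ∨ m' = m + 1) → ∀ φ : D.HU F m' U, φ = 0 := fun m' hm' φ => by
    refine D.eq_zero_of_window F a U m' (fun q k hk => ?_) φ
    rcases lt_trichotomy q a with hq | rfl | hq
    · exact D.vanish_of_isZero (isZero_of_isGE F a q hq)
    · have hm₁ : Mono ((H q).map f) := by
        refine (HomologySequence.mono_homologyMap_mor₁_iff _ hT (q - 1) q).2 ?_
        exact (isZero_of_isGE (((tS).truncGE b).obj E) b (q - 1) (by omega)).eq_of_src _ _
      have he₁ : Epi ((H q).map f) := (HomologySequence.epi_homologyMap_mor₁_iff _ hT q).2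
        ((isZero_of_isGE (((tS).truncGE b).obj E) b q (by omega)).eq_of_tgt _ _)
      have : IsIso ((H q).map f) := @isIso_of_mono_of_epi _ _ _ _ _ _ hm₁ he₁
      have := H9Misc.isIso_map_truncGEπ q q le_rfl E
      exact (h k (by omega)).of_iso D
        (asIso ((H q).map (((tS).truncGEπ q).app E)) ≪≫ (asIso ((H q).map f)).symm)
    · have := hiso q (by omega)
      exact D.vanish_of_isZero (isZero_fibre hT q (hepi _) inferInstance)
  exact D.bijective_of_fibre hT U m (hv m (Or.inl rfl)) (hv (m + 1) (Or.inr rfl))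

/-- An object is the derived limit of its truncations if its negative cohomology objects are
locally eventually acyclic. -/
theorem isRlimVia_trunc (E : DerivedCategory A) [HasProduct (CohCx.truncTower E)] {B : Set C}
    (hB : DLim.IsCoveredBy J B)
    (h : ∀ V ∈ B, ∀ m : ℤ, ∃ N : ℕ, ∀ T ∈ J V, ∃ (ι : Type u) (Y : ι → C) (f : ∀ i, Y i ⟶ V),
      (∀ i, T.arrows (f i)) ∧ Sieve.ofArrows Y f ∈ J V ∧
      ∀ (i : ι) (n k : ℕ), N ≤ n → m - 1 ≤ -((n + 1 : ℕ) : ℤ) + k → -((n + 1 : ℕ) : ℤ) + k ≤ m + 1 →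
        D.Vanish (Y i) ((H (-((n + 1 : ℕ) : ℤ))).obj E) k) :
    CohCx.IsRlimVia (CohCx.truncTower E) (CohCx.truncTowerMap E) E (CohCx.toTruncTower E) := by
  obtain ⟨L, a, e, hL, hea, hfin⟩ := exists_trunc_comparison E
  refine hfin fun m => ?_
  have hπ : ∀ n : ℕ, (-m).toNat ≤ n → IsIso ((H m).map (CohCx.toTruncTower E n)) :=
    fun n hn => isIso_toTruncTower E n m (by omega)
  have := D.isIso_of_eventBij hL hB m (-m).toNat (fun n hn => ?_) (fun V hV => ?_) (-m).toNat le_rfl
  · have := hπ _ le_rfl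
    have e' := congrArg (H m).map (hea (-m).toNat)
    rw [Functor.map_comp] at e'
    exact IsIso.of_isIso_fac_right e'
  · have := hπ n hn
    have := hπ (n + 1) (by omega)
    have e' := congrArg (H m).map (toTruncTower_comp E n)
    rw [Functor.map_comp] at e'
    exact IsIso.of_isIso_fac_left e'
  · obtain ⟨N, hN⟩ := h V hV m
    refine ⟨N, fun T hT => ?_⟩
    obtain ⟨ι, Y, f, hf, hcov, hv⟩ := hN T hT
    refine ⟨ι, Y, f, hf, hcov, fun i => ⟨fun n hn => ?_, fun n hn => ?_⟩⟩
    · exact D.bijective_trunc_step E _ _ (by omega) (Y i) (m - 1)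
        fun k hk => hv i n k hn (by omega) (by omega)
    · exact D.bijective_trunc_step E _ _ (by omega) (Y i) m
        fun k hk => hv i n k hn (by omega) (by omega)

/-- An object with cohomology in a locally bounded class is the derived limit of its truncations. -/
theorem isRlimVia_trunc_of_cohIn (E : DerivedCategory A) [HasProduct (CohCx.truncTower E)]
    {B : Set C} (hB : DLim.IsCoveredBy J B) (hA : D.LocBound PA B) (hE : WSerre.cohIn PA E) :
    CohCx.IsRlimVia (CohCx.truncTower E) (CohCx.truncTowerMap E) E (CohCx.toTruncTower E) := by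
  refine D.isRlimVia_trunc E hB fun V hV m => ?_
  obtain ⟨d, hd⟩ := hA V hV
  refine ⟨(d - m + 1).toNat, fun T hT => ?_⟩
  obtain ⟨ι, Y, f, hf, hcov, hv⟩ := hd T hT
  exact ⟨ι, Y, f, hf, hcov, fun i n k hn h₁ h₂ => hv i _ (hE _) k (by omega)⟩

/-- Cohomology of a derived limit of an eventually constant system with locally bounded
cohomology objects. -/
theorem isIso_homology_rlim [WSerre.IsWeakSerre PA] {B : Set C} (hB : DLim.IsCoveredBy J B)
    (hA : D.LocBound PA B) {K : ℕ → DerivedCategory A} {t : ∀ n, K (n + 1) ⟶ K n} [HasProduct K]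
    (hK : ∀ n, WSerre.cohIn PA (K n) ∧ ∃ a : ℤ, (K n).IsGE a)
    (hconst : ∀ j : ℤ, ∃ n₀ : ℕ, ∀ n, n₀ ≤ n → IsIso ((H j).map (t n)))
    {L : DerivedCategory A} {a : ∀ n, L ⟶ K n} (hL : CohCx.IsRlimVia K t L a) (j : ℤ) :
    ∃ n₀ : ℕ, ∀ n, n₀ ≤ n → IsIso ((H j).map (a n)) := by
  choose ν hν using hconst
  refine ⟨ν j, D.isIso_of_eventBij hL hB j (ν j) (hν j) fun V hV => ?_⟩
  obtain ⟨d, hd⟩ := hA V hV
  refine ⟨(Finset.Icc (j - d - 2) (j + 1)).sup ν, fun T hT => ?_⟩
  obtain ⟨ι, Y, f, hf, hcov, hv⟩ := hd T hT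
  have key : ∀ i (m : ℤ), j - 1 ≤ m → m ≤ j →
      D.EventBij t (Y i) m ((Finset.Icc (j - d - 2) (j + 1)).sup ν) := fun i m h₁ h₂ n hn => by
    obtain ⟨a', ha'⟩ := (hK (n + 1)).2
    obtain ⟨a'', ha''⟩ := (hK n).2
    have : (K (n + 1)).IsGE (min a' a'') := (tS).isGE_of_ge _ _ a' (min_le_left _ _)
    have : (K n).IsGE (min a' a'') := (tS).isGE_of_ge _ _ a'' (min_le_right _ _)
    exact D.bijective_of_cohIn (t n) (min a' a'') (hK _).1 (hK n).1 (Y i) d (hv i) m fun q hq hq' =>
      hν q n (le_trans (Finset.le_sup (Finset.mem_Icc.2 ⟨by omega, by omega⟩)) hn)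
  exact ⟨ι, Y, f, hf, hcov, fun i => ⟨key i (j - 1) le_rfl (by omega), key i j (by omega) le_rfl⟩⟩

end SecData

end Groth.Agent.DLimA
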