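import Groth.Agent.SiteBase.DLimA.Data
import Groth.Agent.SiteBase.DLim.Basic
import Groth.Agent.SiteBase.RpushD.Devissage

/-!
# Hypercohomology in a range of vanishing
-/

set_option autoImplicit false

universe w u

open CategoryTheory CategoryTheory.Limits Opposite Pretriangulated DerivedCategory

namespace Groth.Agent.DLimA

variable {C : Type u} [SmallCategory C] {J : GrothendieckTopology C}
  {A : Type (u + 1)} [Category.{u} A] [Abelian A] [HasDerivedCategory.{w} A] (D : SecData J A)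

local notation "tS" => (DerivedCategory.TStructure.t (C := A))
local notation "H" => DerivedCategory.homologyFunctor A

namespace SecData

lemma Vanish.of_iso {U : C} {F F' : A} {k : ℕ} (h : D.Vanish U F k) (e : F ≅ F') :
    D.Vanish U F' k := fun φ => by
  let i := (shiftFunctor (DerivedCategory A) (k : ℤ)).mapIso ((singleFunctor A 0).mapIso e)
  exact (cancel_mono i.inv).1 ((h (φ ≫ i.inv)).trans zero_comp.symm)

lemma vanish_of_isZero {U : C} {F : A} {k : ℕ} (h : IsZero F) : D.Vanish U F k := fun φ => by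
  have h1 : IsZero ((singleFunctor A 0).obj F) := (singleFunctor A 0).map_isZero h
  exact ((shiftFunctor (DerivedCategory A) (k : ℤ)).map_isZero h1).eq_of_tgt _ _

/-- Classes in degree `m` of an object in degree `q` are classes in degree `m - q` of an object. -/
lemma eq_zero_single (F : A) (q : ℤ) (U : C) (k : ℕ) (m : ℤ) (hm : q + k = m)
    (h : D.Vanish U F k) (φ : D.HU ((singleFunctor A q).obj F) m U) : φ = 0 := by
  let i : ((singleFunctor A 0).obj F)⟦(k : ℤ)⟧ ≅ ((singleFunctor A q).obj F)⟦m⟧ :=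
    (shiftFunctor _ (k : ℤ)).mapIso
      (((singleFunctors A).shiftIso q 0 q (add_zero q)).app F).symm ≪≫
    ((shiftFunctorAdd' (DerivedCategory A) q (k : ℤ) m hm).app _).symm
  exact (cancel_mono i.inv).1 ((h (φ ≫ i.inv)).trans zero_comp.symm)

/-- `H^m(U, Z) = 0` if `H^k(U, H^{m-k} Z) = 0` for all `k`, for `Z` bounded below. -/
lemma eq_zero_of_window (Z : DerivedCategory A) (a : ℤ) [Z.IsGE a] (U : C) (m : ℤ)
    (h : ∀ (q : ℤ) (k : ℕ), q + k = m → D.Vanish U ((H q).obj Z) k) (φ : D.HU Z m U) : φ = 0 := by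
  let P : ObjectProperty (DerivedCategory A) := fun X => ∀ ψ : D.HU X m U, ψ = 0
  have hiso : P.IsClosedUnderIsomorphisms := ⟨fun {X Y} e hX ψ => by
    let i := (shiftFunctor (DerivedCategory A) m).mapIso e
    exact (cancel_mono i.inv).1 ((hX (ψ ≫ i.inv)).trans zero_comp.symm)⟩
  have hP : ∀ T ∈ distTriang (DerivedCategory A), P T.obj₁ → P T.obj₃ → P T.obj₂ :=
    fun T hT h₁ h₃ ψ => by
      obtain ⟨y, hy⟩ := DLim.exact₂_shift T hT m ψ (h₃ _)
      rw [← hy, h₁ y, zero_comp]
  let T := (tS).triangleLTGE (m + 1) |>.obj Z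
  have hT := (tS).triangleLTGE_distinguished (m + 1) Z
  have h₃ : P T.obj₃ := fun ψ => by
    have : T.obj₃.IsGE (m + 1) := (tS).isGE_truncGE_obj ..
    have : (T.obj₃⟦m⟧).IsGE 1 := (tS).isGE_shift T.obj₃ (m + 1) m 1 (by omega)
    exact (tS).zero ψ 0 1 (by omega)
  have h₁ : P T.obj₁ := by
    have hG : T.obj₁.IsGE a := Groth.Agent.SiteBase.RpushD.isGE_truncLT Z a (m + 1)
    have : T.obj₁.IsLE m := (tS).isLE_truncLT_obj ..
    have : T.obj₁.IsLE (a + (m - a).toNat) := (tS).isLE_of_le T.obj₁ m _ (by omega)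
    refine Groth.Agent.SiteBase.RpushD.prop_of_bounded P hP (m - a).toNat T.obj₁ a fun q _ _ ψ => ?_
    by_cases hq : q ≤ m
    · have := H9Misc.isIso_map_truncLTι (m + 1) q (by omega) Z
      exact D.eq_zero_single _ q U (m - q).toNat m (by omega)
        ((h q (m - q).toNat (by omega)).of_iso D
          (asIso ((H q).map (((tS).truncLTι (m + 1)).app Z))).symm) ψ
    · have h0 : IsZero ((singleFunctor A q).obj ((H q).obj T.obj₁)) :=
        (singleFunctor A q).map_isZero (isZero_of_isLE T.obj₁ m q (by omega))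
      exact ((shiftFunctor (DerivedCategory A) m).map_isZero h0).eq_of_tgt _ _
  exact hP T hT h₁ h₃ φ

/-- A morphism with fibre acyclic in degrees `m` and `m + 1` is bijective on `H^m(U, -)`. -/
lemma bijective_of_fibre {F K' K : DerivedCategory A} {f : F ⟶ K'} {g : K' ⟶ K}
    {δ : K ⟶ F⟦(1 : ℤ)⟧} (hT : Triangle.mk f g δ ∈ distinguishedTriangles) (U : C) (m : ℤ)
    (h0 : ∀ φ : D.HU F m U, φ = 0) (h1 : ∀ φ : D.HU F (m + 1) U, φ = 0) :
    Function.Bijective (fun x : D.HU K' m U => x ≫ g⟦m⟧') := by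
  refine ⟨fun x y hxy => sub_eq_zero.1 ?_, fun x => ?_⟩
  · obtain ⟨z, hz⟩ := DLim.exact₂_mk hT m (x - y) (by
      rw [Preadditive.sub_comp, sub_eq_zero]; exact hxy)
    rw [← hz, h0 z, zero_comp]
  · exact DLim.exact₃_shift _ hT m x
      ((cancel_mono ((shiftFunctorAdd' _ (1 : ℤ) m (m + 1) (by omega)).inv.app F)).1
        ((h1 _).trans zero_comp.symm))

end SecData

/-- The fibre of `g` has no cohomology where `g` is bijective on cohomology. -/
lemma isZero_fibre {F K' K : DerivedCategory A} {f : F ⟶ K'} {g : K' ⟶ K}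
    {δ : K ⟶ F⟦(1 : ℤ)⟧} (hT : Triangle.mk f g δ ∈ distinguishedTriangles) (q : ℤ)
    (h0 : Epi ((H (q - 1)).map g)) (h1 : Mono ((H q).map g)) : IsZero ((H q).obj F) := by
  have hm : Mono ((H q).map f) := by
    refine (HomologySequence.mono_homologyMap_mor₁_iff _ hT (q - 1) q).2 ?_
    exact (HomologySequence.epi_homologyMap_mor₂_iff _ hT (q - 1) q).1 h0
  refine @IsZero.of_mono_eq_zero _ _ _ _ _ _ hm ((cancel_mono ((H q).map g)).1 ?_)
  rw [zero_comp, ← Functor.map_comp]
  exact (congrArg (H q).map (comp_distTriang_mor_zero₁₂ _ hT)).trans (Functor.map_zero _ _ _)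

/-- The fibre of a morphism of bounded below objects is bounded below. -/
lemma isGE_fibre {F K' K : DerivedCategory A} {f : F ⟶ K'} {g : K' ⟶ K}
    {δ : K ⟶ F⟦(1 : ℤ)⟧} (hT : Triangle.mk f g δ ∈ distinguishedTriangles) (a : ℤ)
    [K'.IsGE a] [K.IsGE a] : F.IsGE a :=
  (isGE_iff _ _).2 fun i hi => isZero_fibre hT i
    ⟨fun u v _ => (isZero_of_isGE K a (i - 1) (by omega)).eq_of_src u v⟩
    ⟨fun u v _ => (isZero_of_isGE K' a i hi).eq_of_tgt u v⟩

end Groth.Agent.DLimA
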